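import Mathlib
import Cfsg.Agent.Lib.FischerMTypes.Thirteen.Fixed

/-!
Type M(22): elements of order three in the centraliser of a transposition. They lift to elements of
order three of the six-dimensional unitary group, three shapes occur, and the shape is read off the
number of neighbours.
-/

set_option autoImplicit false
set_option linter.style.haveILetI false
set_option linter.unusedSectionVars false

namespace Cfsg.Agent.Lib.FischerMTypes.Threes

open Cfsg.Agent.Lib.FischerMTypes.Basic Cfsg.Agent.Lib.FischerMTypes.Primitive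
  Cfsg.Agent.Lib.FischerMTypes.PointModel Cfsg.Agent.Lib.FischerMTypes.StabilizerM22
  Cfsg.Agent.Lib.FischerMTypes.Thirteen
open Cfsg.Agent.Lib.FischerMTypes.TraceCounts (Sys)
open Cfsg.Agent.Lib.Unitary Cfsg.Agent.Lib.UnitaryFour.Transvection
open Cfsg.Agent.Lib.FischerMTypes.Eleven (L det_L)
open Matrix Module

section Unitary

variable {F : Type} [Field F] [Fintype F]

local notation "h⟪" u ", " v "⟫" => Cfsg.hermForm 6 F 2 u v

theorem rot_sign : Equiv.Perm.sign
    ((Equiv.refl (Fin 2)).prodCongr (finRotate 3) : Equiv.Perm (Fin 2 × Fin 3)) = 1 := by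
  decide +kernel

/-- a cube is never a scalar other than one -/
theorem cube_scalar (hF : Fintype.card F = 2 ^ 2) {g : Cfsg.SU 6 F 2} {l : F}
    (hl : ∀ v, act (g ^ 3) v = l • v) : l = 1 := by
  classical
  by_contra hne
  have hl' : ∀ v, act g (act g (act g v)) = l • v := fun v => by
    rw [← hl v, pow_succ, pow_two, act_mul, act_mul]
  have hl0 : l ≠ 0 := by
    intro h
    have h1 : act (g ^ 3)⁻¹ (act (g ^ 3) (Pi.single (0 : Fin 6) (1 : F))) = Pi.single 0 1 := act_inv_self _ _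
    rw [hl, h, zero_smul] at h1
    have h2 := congrFun h1 0
    simp [act_def] at h2
  have hno : ∀ {a : F}, a ^ 3 ≠ l := fun {a} h => by
    by_cases ha : a = 0
    · subst ha; exact hl0 (by rw [← h]; norm_num)
    · exact hne (h.symm.trans (cube_eq_one hF ha))
  let W : (Fin 6 → F) → Submodule F (Fin 6 → F) := fun v =>
    Submodule.span F (Set.range ![v, act g v, act g (act g v)])
  have hW : ∀ v, ∀ z ∈ W v, act g z ∈ W v := by
    intro v z hz
    obtain ⟨c, rfl⟩ := (Submodule.mem_span_range_iff_exists_fun F).mp hz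
    refine (Submodule.mem_span_range_iff_exists_fun F).mpr ⟨![c 2 * l, c 0, c 1], ?_⟩
    simp only [act_add, act_smul, Fin.sum_univ_three, Matrix.cons_val_zero, Matrix.cons_val_one, Matrix.cons_val, hl']
    module
  have hind : ∀ {v : Fin 6 → F}, v ≠ 0 → LinearIndependent F ![v, act g v, act g (act g v)] := by
    intro v hv
    have h2 : LinearIndependent F ![v, act g v] := (LinearIndependent.pair_iff' hv).mpr fun a ha => by
      have h3 := hl' v
      rw [← ha] at h3
      simp only [act_smul, ← ha, smul_smul] at h3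
      exact hno (a := a) (smul_left_injective F hv (show a ^ 3 • v = l • v by
        rw [← h3]; congr 1; ring))
    rw [Fintype.linearIndependent_iff]
    intro c hc
    simp only [Fin.sum_univ_three, Matrix.cons_val_zero, Matrix.cons_val_one, Matrix.cons_val] at hc
    have h2' := LinearIndependent.pair_iff.mp h2
    by_cases hc2 : c 2 = 0
    · rw [hc2, zero_smul, add_zero] at hc
      obtain ⟨h0, h1⟩ := h2' _ _ hc
      intro i; fin_cases i <;> assumption
    · exfalso
      obtain ⟨p, q, he⟩ : ∃ p q : F, act g (act g v) = p • v + q • act g v :=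
        ⟨-(c 2)⁻¹ * c 0, -(c 2)⁻¹ * c 1, by
          linear_combination (norm := (match_scalars <;> field_simp <;> ring)) (c 2)⁻¹ • hc⟩
      have h3 := hl' v
      rw [he, act_add, act_smul, act_smul, he] at h3
      obtain ⟨e1, e2⟩ := h2' (q * p - l) (p + q * q)
        (by linear_combination (norm := module) h3)
      exact hno (a := q) (by linear_combination q * e2 - e1 - l * two_eq_zero hF)
  set v : Fin 6 → F := Pi.single 0 1
  have hv : v ≠ 0 := fun h => by simpa [v] using congrFun h 0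
  have hdim : ∀ {v : Fin 6 → F}, v ≠ 0 → finrank F (W v) = 3 := fun h => by
    rw [finrank_span_eq_card (hind h), Fintype.card_fin]
  obtain ⟨u, -, hu⟩ : ∃ u ∈ (⊤ : Submodule F (Fin 6 → F)), u ∉ W v := by
    refine SetLike.exists_of_lt (lt_top_iff_ne_top.mpr fun h => ?_)
    have := hdim hv
    rw [h, finrank_top, finrank_fin_fun] at this
    norm_num at this
  have hu0 : u ≠ 0 := fun h => hu (h ▸ zero_mem _)
  have hdis : W v ⊓ W u = ⊥ := by
    rw [Submodule.eq_bot_iff]
    intro z hz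
    by_contra hz0
    have hsub : ∀ {w : Fin 6 → F}, z ∈ W w → W z ≤ W w := fun {w} h => Submodule.span_le.mpr (by
      rintro _ ⟨i, rfl⟩
      fin_cases i
      exacts [h, hW w z h, hW w _ (hW w z h)])
    obtain ⟨h1, h2⟩ := Submodule.mem_inf.mp hz
    have hw0 : ∀ {w : Fin 6 → F}, z ∈ W w → w ≠ 0 → W z = W w := fun h hw =>
      Submodule.eq_of_le_of_finrank_eq (hsub h) (by rw [hdim hz0, hdim hw])
    exact hu ((hw0 h1 hv).symm.trans (hw0 h2 hu0) ▸ Submodule.subset_span ⟨0, rfl⟩)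
  set f : Fin 2 × Fin 3 → (Fin 6 → F) := fun p =>
    ![![v, act g v, act g (act g v)], ![u, act g u, act g (act g u)]] p.1 p.2
  have hfi : LinearIndependent F f := by
    rw [Fintype.linearIndependent_iff]
    intro c hc
    simp only [Fintype.sum_prod_type, Fin.sum_univ_two, f, Matrix.cons_val_zero, Matrix.cons_val_one] at hc
    set s := ∑ j, c (0, j) • ![v, act g v, act g (act g v)] j
    have hs1 : s ∈ W v := (Submodule.mem_span_range_iff_exists_fun F).mpr ⟨_, rfl⟩
    have hs2 : s ∈ W u := by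
      rw [show s = -∑ j, c (1, j) • ![u, act g u, act g (act g u)] j from eq_neg_of_add_eq_zero_left hc]
      exact neg_mem ((Submodule.mem_span_range_iff_exists_fun F).mpr ⟨_, rfl⟩)
    have hs : s = 0 := (Submodule.mem_bot F).mp (hdis ▸ Submodule.mem_inf.mpr ⟨hs1, hs2⟩)
    have hrest : ∑ j, c (1, j) • ![u, act g u, act g (act g u)] j = 0 := by rw [hs, zero_add] at hc; exact hc
    rintro ⟨i, j⟩
    fin_cases i
    · exact Fintype.linearIndependent_iff.mp (hind hv) (fun j => c (0, j)) hs j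
    · exact Fintype.linearIndependent_iff.mp (hind hu0) (fun j => c (1, j)) hrest j
  let bB : Basis (Fin 2 × Fin 3) F (Fin 6 → F) := basisOfLinearIndependentOfCardEqFinrank hfi (by simp)
  have hbB : ∀ p, bB p = f p := fun p => by rw [coe_basisOfLinearIndependentOfCardEqFinrank]
  set π : Equiv.Perm (Fin 2 × Fin 3) := (Equiv.refl (Fin 2)).prodCongr (finRotate 3)
  set wt : Fin 2 × Fin 3 → F := fun p => ![1, 1, l] p.2
  have hmat : LinearMap.toMatrix bB bB (L g) = (Matrix.diagonal fun p => wt (π.symm p)).submatrix id π := by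
    ext p q
    rw [LinearMap.toMatrix_apply, show L g (bB q) = wt q • bB (π q) by
      rw [hbB, hbB, Eleven.L_apply]
      obtain ⟨i, j⟩ := q
      fin_cases i <;> fin_cases j <;> simp [f, wt, π, hl'], map_smul, Basis.repr_self, Finsupp.smul_apply,
      Finsupp.single_apply, Matrix.submatrix_apply, id, Matrix.diagonal_apply]
    by_cases h : p = π q
    · subst h; simp
    · simp [h, Ne.symm h]
  have hd := det_L g
  rw [← LinearMap.det_toMatrix bB, hmat, Matrix.det_permute', rot_sign, Matrix.det_diagonal,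
    Fintype.prod_equiv π.symm (fun p => wt (π.symm p)) wt (fun p => rfl), Fintype.prod_prod_type] at hd
  simp [wt, Fin.prod_univ_three] at hd
  rcases hd with h | h
  · exact hne h
  · exact hne (by linear_combination h - two_eq_zero hF)

theorem null_four (hF : Fintype.card F = 2 ^ 2) : countNull F 2 4 = 136 := by
  have := (UnitaryFour.Counts.countNull_values hF).2.2.1
  exact this

end Unitary

variable {G : Type*} [Group G] [Finite G] {D : Set G}
variable {F : Type} [Field F] [Fintype F]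

local notation "h⟪" u ", " v "⟫" => Cfsg.hermForm 6 F 2 u v

variable (S : Sys D F)

include S in
theorem mem_closure_of_commute {y d : G} (hd : d ∈ D) (hyd : Commute y d) : y ∈ Subgroup.closure (perp D d) := by
  rw [centralizer_eq S hd, Subgroup.mem_centralizer_singleton_iff]; exact hyd.eq

/-- `g` lifts `y` -/
def IsLift {d : G} (C : Ctx D d F) (g : Cfsg.SU 6 F 2) (y : G) : Prop :=
  ∃ hy : y ∈ Subgroup.closure (perp D d), C.φ g = QuotientGroup.mk ⟨y, hy⟩

theorem IsLift.conj_pt {d y : G} {C : Ctx D d F} {g : Cfsg.SU 6 F 2} (h : IsLift C g y) {v : Fin 6 → F}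
    (hv : h⟪v, v⟫ = 0) (hv0 : v ≠ 0) : y * C.pt v * y⁻¹ = C.pt (act g v) :=
  C.pt_conj hv hv0 g (k := ⟨y, h.1⟩) h.2.symm

theorem act_ne_zero {g : Cfsg.SU 6 F 2} {v : Fin 6 → F} (hv0 : v ≠ 0) : act g v ≠ 0 := fun h => hv0 (by
  rw [← act_inv_self g v, h]; simp [act_def])

theorem IsLift.commute_pt {d y : G} {C : Ctx D d F} {g : Cfsg.SU 6 F 2} (h : IsLift C g y) {v : Fin 6 → F}
    (hv : h⟪v, v⟫ = 0) (hv0 : v ≠ 0) : Commute y (C.pt v) ↔ ∃ c : F, c ≠ 0 ∧ act g v = c • v := by
  rw [← C.pt_eq hv hv0 (by rw [act_herm]; exact hv) (act_ne_zero hv0), ← h.conj_pt hv hv0]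
  exact ⟨fun h => by rw [h.eq, mul_inv_cancel_right], fun h => mul_inv_eq_iff_eq_mul.mp h.symm⟩

include S in
theorem exists_lift {y d : G} (hy3 : y ^ 3 = 1) (hd : d ∈ D) (hyd : Commute y d) :
    ∃ g : Cfsg.SU 6 F 2, g ^ 3 = 1 ∧ IsLift (S.ctx d hd) g y := by
  set C := S.ctx d hd
  have hyH := mem_closure_of_commute S hd hyd
  obtain ⟨g, hg⟩ := C.surj (QuotientGroup.mk ⟨y, hyH⟩)
  refine ⟨g, ?_, hyH, hg⟩
  have hk : g ^ 3 ∈ C.φ.ker := by
    rw [MonoidHom.mem_ker, map_pow, hg, ← QuotientGroup.mk_pow,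
      show (⟨y, hyH⟩ : ↥(Subgroup.closure (perp D d))) ^ 3 = 1 from Subtype.ext hy3, QuotientGroup.mk_one]
  obtain ⟨l, hl⟩ := (mem_center_SU_iff C.hF (by norm_num) _).mp (C.ker hk)
  refine ext' fun v => ?_
  rw [act_one, show act (g ^ 3) v = l • v from hl v, cube_scalar C.hF hl, one_smul]

include S in
/-- not a scalar -/
theorem dim_lt_six {y d : G} (hy3 : y ^ 3 = 1) (hy : y ≠ 1) (hd : d ∈ D) {g : Cfsg.SU 6 F 2}
    (hl : IsLift (S.ctx d hd) g y) {cs : Fin 3 → F} {dm : Fin 3 → ℕ}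
    {b : (i : Fin 3) → Fin (dm i) → Fin 6 → F} (E : Decomp g cs dm b) (i : Fin 3) : dm i ≠ 6 := by
  intro h6
  set C := S.ctx d hd
  have hall : ∀ z ∈ perp D d, Commute y z := fun z hz => by
    obtain ⟨v, hv, hv0, rfl⟩ := C.exists_pt hz
    exact (hl.commute_pt hv hv0).mpr ⟨cs i, fun h => by simpa [h] using E.cs_cube i, E.scalar_of_six h6 v⟩
  rcases center_perp S hd hl.1 (fun z hz => (hall z hz).eq.symm) with h | h
  · exact hy h
  · rw [h, pow_succ, pow_two, mul_self S.hD.1 hd, one_mul] at hy3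
    exact hy (h.trans hy3)

/-- the three shapes -/
def Shaped (dm : Fin 3 → ℕ) : Prop :=
  ((∀ i, dm i = 4 ∨ dm i = 1) ∨ (∀ i, dm i = 3 ∨ dm i = 0) ∨ ∀ i, dm i = 2) ∧ dm 0 + dm 1 + dm 2 = 6

include S in
theorem shaped {y d : G} (hy3 : y ^ 3 = 1) (hy : y ≠ 1) (hd : d ∈ D) {g : Cfsg.SU 6 F 2}
    (hl : IsLift (S.ctx d hd) g y) {cs : Fin 3 → F} {dm : Fin 3 → ℕ}
    {b : (i : Fin 3) → Fin (dm i) → Fin 6 → F} (E : Decomp g cs dm b) : Shaped dm := by
  have hdim := E.sum_dim
  have hdet := E.det_cond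
  have h0 := dim_lt_six S hy3 hy hd hl E 0
  have h1 := dim_lt_six S hy3 hy hd hl E 1
  have h2 := dim_lt_six S hy3 hy hd hl E 2
  refine ⟨?_, hdim⟩
  rcases shape_cases (a := dm 0) (b := dm 1) (c := dm 2) (by omega) (by omega) (by omega) hdim (by omega)
    with h | h | h | h | h | h | h
  · exact Or.inl fun i => by fin_cases i <;> simp [h.1, h.2.1, h.2.2]
  · exact Or.inl fun i => by fin_cases i <;> simp [h.1, h.2.1, h.2.2]
  · exact Or.inl fun i => by fin_cases i <;> simp [h.1, h.2.1, h.2.2]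
  · exact Or.inr (Or.inl fun i => by fin_cases i <;> simp [h.1, h.2.1, h.2.2])
  · exact Or.inr (Or.inl fun i => by fin_cases i <;> simp [h.1, h.2.1, h.2.2])
  · exact Or.inr (Or.inl fun i => by fin_cases i <;> simp [h.1, h.2.1, h.2.2])
  · exact Or.inr (Or.inr fun i => by fin_cases i <;> simp [h.1, h.2.1, h.2.2])

include S in
/-- the number of neighbours from the dimensions -/
theorem count_nbr {y d : G} (hd : d ∈ D) {g : Cfsg.SU 6 F 2}
    (hl : IsLift (S.ctx d hd) g y) {cs : Fin 3 → F} {dm : Fin 3 → ℕ}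
    {b : (i : Fin 3) → Fin (dm i) → Fin 6 → F} (E : Decomp g cs dm b) :
    3 * (nbr D y d).ncard =
      (countNull F 2 (dm 0) - 1) + (countNull F 2 (dm 1) - 1) + (countNull F 2 (dm 2) - 1) := by
  classical
  set C := S.ctx d hd
  have hcs0 : ∀ i, cs i ≠ 0 := fun i h => by simpa [h] using E.cs_cube i
  set V : Fin 3 → Set (Fin 6 → F) := fun i => {v | act g v = cs i • v ∧ h⟪v, v⟫ = 0} \ {0}
  have hV : ∀ i, (V i).ncard = countNull F 2 (dm i) - 1 := fun i => by
    rw [Set.ncard_sdiff_singleton_of_mem, E.ncard_null C.hF i]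
    exact ⟨by simp [act_def], herm_zero_left _⟩
  have hdis : ∀ i k, i ≠ k → Disjoint (V i) (V k) := fun i k hik => Set.disjoint_left.mpr fun v hv hv' =>
    hik (E.cs_inj (smul_left_injective F (show v ≠ 0 from hv.2) (hv.1.1.symm.trans hv'.1.1)))
  rw [C.three_mul_ncard (fun u => Commute y u), ← hV, ← hV, ← hV,
    ← Set.ncard_union_eq (hdis 0 1 (by decide)) (Set.toFinite _) (Set.toFinite _),
    ← Set.ncard_union_eq ((hdis 0 2 (by decide)).union_left (hdis 1 2 (by decide))) (Set.toFinite _)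
      (Set.toFinite _)]
  congr 1
  ext v
  simp only [Set.mem_ofPred_eq, Set.mem_union]
  constructor
  · rintro ⟨hv, hv0, hc⟩
    obtain ⟨c, hc0, hcv⟩ := (hl.commute_pt hv hv0).mp hc
    obtain ⟨i, rfl⟩ := E.exists_index C.hF hc0
    fin_cases i
    exacts [Or.inl (Or.inl ⟨⟨hcv, hv⟩, hv0⟩), Or.inl (Or.inr ⟨⟨hcv, hv⟩, hv0⟩), Or.inr ⟨⟨hcv, hv⟩, hv0⟩]
  · rintro ((h | h) | h) <;> exact ⟨h.1.2, h.2, (hl.commute_pt h.1.2 h.2).mpr ⟨_, hcs0 _, h.1.1⟩⟩

include S in
/-- the shapes by their numbers -/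
theorem shape_of_count {y d : G} (hy3 : y ^ 3 = 1) (hy : y ≠ 1) (hd : d ∈ D) {g : Cfsg.SU 6 F 2}
    (hl : IsLift (S.ctx d hd) g y) {cs : Fin 3 → F} {dm : Fin 3 → ℕ}
    {b : (i : Fin 3) → Fin (dm i) → Fin 6 → F} (E : Decomp g cs dm b) :
    ((nbr D y d).ncard = 45 ∧ ∀ i, dm i = 4 ∨ dm i = 1) ∨ ((nbr D y d).ncard = 18 ∧ ∀ i, dm i = 3 ∨ dm i = 0) ∨
      ((nbr D y d).ncard = 9 ∧ ∀ i, dm i = 2) := by
  obtain ⟨hs, hsum⟩ := shaped S hy3 hy hd hl E
  have hc := count_nbr S hd hl E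
  obtain ⟨c0, c1, c2, c3⟩ := countNull_small (F := F) (S.ctx d hd).hF
  have c4 := null_four (F := F) (S.ctx d hd).hF
  rcases hs with h | h | h
  · refine Or.inl ⟨?_, h⟩
    rcases h 0 with a | a <;> rcases h 1 with a' | a' <;> rcases h 2 with a'' | a'' <;>
      rw [a, a', a''] at hc hsum <;> simp only [c1, c4] at hc <;> omega
  · refine Or.inr (Or.inl ⟨?_, h⟩)
    rcases h 0 with a | a <;> rcases h 1 with a' | a' <;> rcases h 2 with a'' | a'' <;>
      rw [a, a', a''] at hc hsum <;> simp only [c0, c3] at hc <;> omega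
  · exact Or.inr (Or.inr ⟨by rw [h 0, h 1, h 2, c2] at hc; omega, h⟩)

include S in
theorem ncard_nbr_cases {y d : G} (hy3 : y ^ 3 = 1) (hy : y ≠ 1) (hd : d ∈ D) (hyd : Commute y d) :
    (nbr D y d).ncard = 45 ∨ (nbr D y d).ncard = 18 ∨ (nbr D y d).ncard = 9 := by
  obtain ⟨g, hg, hl⟩ := exists_lift S hy3 hd hyd
  obtain ⟨cs, dm, b, E⟩ := exists_decomp (S.ctx d hd).hF hg
  rcases shape_of_count S hy3 hy hd hl E with h | h | h
  exacts [Or.inl h.1, Or.inr (Or.inl h.1), Or.inr (Or.inr h.1)]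

include S in
theorem typeFour_of {y d : G} (hy3 : y ^ 3 = 1) (hy : y ≠ 1) (hd : d ∈ D) (hyd : Commute y d)
    (h : (nbr D y d).ncard = 45) : TypeFour D y d := by
  rcases local_type S hy3 hy hd hyd with h' | h' | h' | h'
  · rw [h', Set.ncard_empty] at h; norm_num at h
  · exact h'
  · rw [h'.1] at h; norm_num at h
  · rw [h'.1] at h; norm_num at h

include S in
theorem typeParts_of {y d : G} (hy3 : y ^ 3 = 1) (hy : y ≠ 1) (hd : d ∈ D) (hyd : Commute y d) :
    ((nbr D y d).ncard = 18 → TypeParts D y d 18 9) ∧ ((nbr D y d).ncard = 9 → TypeParts D y d 9 3) := by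
  rcases local_type S hy3 hy hd hyd with h' | h' | h' | h'
  · rw [h', Set.ncard_empty]; exact ⟨fun h => by norm_num at h, fun h => by norm_num at h⟩
  · rw [(quad_facts S hd h').1]; exact ⟨fun h => by norm_num at h, fun h => by norm_num at h⟩
  · exact ⟨fun _ => h', fun h => by rw [h'.1] at h; norm_num at h⟩
  · exact ⟨fun h => by rw [h'.1] at h; norm_num at h, fun _ => h'⟩

include S in
/-- one number for all fixed transpositions -/
theorem nbr_same {y d e : G} (hy3 : y ^ 3 = 1) (hy : y ≠ 1) (hd : d ∈ fixd D y) (he : e ∈ fixd D y) :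
    (nbr D y d).ncard = (nbr D y e).ncard := by
  by_cases hde : d = e
  · rw [hde]
  by_cases hc : Commute d e
  · have hed : e ∈ nbr D y d := ⟨⟨he.1, Ne.symm hde, hc⟩, he.2⟩
    have hde' := mem_nbr_symm hd hed
    have hl : {v | v ∈ nbr D y d ∧ v ∈ perp D e}.ncard = {v | v ∈ nbr D y e ∧ v ∈ perp D d}.ncard := by
      congr 1
      exact Set.ext fun v => ⟨fun h => ⟨⟨h.2, h.1.2⟩, h.1.1⟩, fun h => ⟨⟨h.2, h.1.2⟩, h.1.1⟩⟩
    have lam : ∀ {p q : G}, p ∈ fixd D y → q ∈ nbr D y p →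
        ((nbr D y p).ncard = 45 ∧ {v | v ∈ nbr D y p ∧ v ∈ perp D q}.ncard = 12) ∨
          ((nbr D y p).ncard = 18 ∧ {v | v ∈ nbr D y p ∧ v ∈ perp D q}.ncard = 9) ∨
            ((nbr D y p).ncard = 9 ∧ {v | v ∈ nbr D y p ∧ v ∈ perp D q}.ncard = 6) := fun {p q} hp hq => by
      rcases ncard_nbr_cases S hy3 hy hp.1 hp.2 with h | h | h
      · exact Or.inl ⟨h, (quad_facts S hp.1 (typeFour_of S hy3 hy hp.1 hp.2 h)).2.1 q hq⟩
      · have := ((typeParts_of S hy3 hy hp.1 hp.2).1 h).2.1 q hq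
        exact Or.inr (Or.inl ⟨h, by omega⟩)
      · have := ((typeParts_of S hy3 hy hp.1 hp.2).2 h).2.1 q hq
        exact Or.inr (Or.inr ⟨h, by omega⟩)
    rcases lam hd hed with ⟨a, a'⟩ | ⟨a, a'⟩ | ⟨a, a'⟩ <;>
      rcases lam he hde' with ⟨b, b'⟩ | ⟨b, b'⟩ | ⟨b, b'⟩ <;> omega
  · have hr : Commute y (d * e) := hd.2.mul_right he.2
    have := ncard_nbr_conj S.hD (d := d) hr
    rw [show d * e * d * (d * e)⁻¹ = e from ?_] at this
    · exact this.symm
    · rw [_root_.mul_inv_rev, inv_eq S.hD.1 hd.1, inv_eq S.hD.1 he.1, braid S.hD.1 hd.1 he.1 hc]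
      calc e * d * e * (e * d) = e * d * (e * e) * d := by group
        _ = e := by rw [mul_self S.hD.1 he.1, mul_one, mul_assoc, mul_self S.hD.1 hd.1, mul_one]

end Cfsg.Agent.Lib.FischerMTypes.Threes
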