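import Mathlib
import Cfsg.Agent.Lib.FischerMTypes.Threes.Shape

/-!
Type M(22): an element of order three centralising a transposition is determined up to conjugacy by
the number of its neighbours there, and all three numbers occur.
-/

set_option autoImplicit false
set_option linter.style.haveILetI false
set_option linter.unusedSectionVars false

namespace Cfsg.Agent.Lib.FischerMTypes.Threes

open Cfsg.Agent.Lib.FischerMTypes.Basic Cfsg.Agent.Lib.FischerMTypes.Primitive
  Cfsg.Agent.Lib.FischerMTypes.PointModel Cfsg.Agent.Lib.FischerMTypes.StabilizerM22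
  Cfsg.Agent.Lib.FischerMTypes.Thirteen
open Cfsg.Agent.Lib.FischerMTypes.TraceCounts (Sys)
open Cfsg.Agent.Lib.Unitary Cfsg.Agent.Lib.UnitaryFour.Transvection
open Cfsg.Agent.Lib.FischerMTypes.Eleven (L)
open Matrix Module

section Unitary

variable {F : Type} [Field F] [Fintype F]

local notation "h⟪" u ", " v "⟫" => Cfsg.hermForm 6 F 2 u v

/-- an orthonormal frame of eigenvectors -/
def Framed (g : Cfsg.SU 6 F 2) (c : Fin 6 → F) (f : Fin 6 → Fin 6 → F) : Prop :=
  Orthonormal' 2 f ∧ ∀ k, act g (f k) = c k • f k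

theorem omega_inj (hF : Fintype.card F = 2 ^ 2) {w : F} (hw0 : w ≠ 0) (hw1 : w ≠ 1) :
    Function.Injective fun m : Fin 3 => w ^ (m : ℕ) := by
  have h3 := Cfsg.Agent.Lib.UnitaryFour.Transvection.cube_eq_one hF hw0
  intro i j h
  have hu : Units.mk0 w hw0 ^ (i : ℕ) = Units.mk0 w hw0 ^ (j : ℕ) := Units.ext (by simpa using h)
  have ho : orderOf (Units.mk0 w hw0) = 3 := by
    have : Fact (Nat.Prime 3) := ⟨Nat.prime_three⟩
    exact orderOf_eq_prime (Units.ext (by simpa using h3)) fun e => hw1 (by simpa using congrArg Units.val e)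
  have hm := pow_eq_pow_iff_modEq.mp hu
  rw [ho, Nat.ModEq, Nat.mod_eq_of_lt i.2, Nat.mod_eq_of_lt j.2] at hm
  exact Fin.ext hm

/-- enough orthonormal eigenvectors bound the dimension -/
theorem le_dim {g : Cfsg.SU 6 F 2} {cs : Fin 3 → F} {dm : Fin 3 → ℕ}
    {b : (i : Fin 3) → Fin (dm i) → Fin 6 → F} (E : Decomp g cs dm b) {k : ℕ} {f : Fin k → Fin 6 → F}
    (hf : Orthonormal' 2 f) {i : Fin 3} (h : ∀ t, act g (f t) = cs i • f t) : k ≤ dm i := by
  have hsub : Submodule.span F (Set.range f) ≤ Submodule.span F (Set.range (b i)) := by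
    refine Submodule.span_le.mpr ?_
    rintro _ ⟨t, rfl⟩
    obtain ⟨y, hy⟩ := E.span i _ (h t)
    exact (Submodule.mem_span_range_iff_exists_fun F).mpr ⟨y, hy.symm⟩
  have := Submodule.finrank_mono hsub
  rwa [finrank_span_eq_card (orthonormal_linearIndependent hf),
    finrank_span_eq_card (orthonormal_linearIndependent (E.on i)), Fintype.card_fin, Fintype.card_fin] at this

/-- the orthonormal bases of the eigenspaces as one frame -/
theorem exists_frame_map (hF : Fintype.card F = 2 ^ 2) {g : Cfsg.SU 6 F 2} {cs : Fin 3 → F} {dm : Fin 3 → ℕ}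
    {b : (i : Fin 3) → Fin (dm i) → Fin 6 → F} (E : Decomp g cs dm b) (σ : Fin 6 → Fin 3)
    (hσ : ∀ i, (Finset.univ.filter fun k => σ k = i).card = dm i) :
    ∃ f, Framed g (fun k => cs (σ k)) f := by
  classical
  let e : ∀ i, {k // σ k = i} ≃ Fin (dm i) := fun i =>
    Fintype.equivFinOfCardEq (by rw [Fintype.card_subtype, hσ])
  have hh : ∀ (i) (x : {k // σ k = i}), b (σ x.1) (e (σ x.1) ⟨x.1, rfl⟩) = b i (e i x) := by
    rintro i ⟨x, rfl⟩
    rfl
  refine ⟨fun k => b (σ k) (e (σ k) ⟨k, rfl⟩), fun k l => ?_, fun k => E.mem _ _⟩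
  by_cases h : σ k = σ l
  · show h⟪b (σ k) (e (σ k) ⟨k, rfl⟩), b (σ l) (e (σ l) ⟨l, rfl⟩)⟫ = _
    rw [hh (σ l) ⟨k, h⟩, E.on]
    refine if_congr ⟨fun he => congrArg Subtype.val ((e (σ l)).injective he), fun he => ?_⟩ rfl rfl
    subst he
    rfl
  · rw [if_neg fun he => h (congrArg σ he)]
    exact E.orth hF h (E.mem _ _) (E.mem _ _)

/-- a frame with given multiplicities, up to a scalar -/
theorem exists_frame (hF : Fintype.card F = 2 ^ 2) {g : Cfsg.SU 6 F 2} {cs : Fin 3 → F} {dm : Fin 3 → ℕ}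
    {b : (i : Fin 3) → Fin (dm i) → Fin 6 → F} (E : Decomp g cs dm b) {w : F} (hw0 : w ≠ 0) (hw1 : w ≠ 1)
    (τ : Fin 6 → Fin 3) (n : Fin 3 → ℕ) (hτ : ∀ m, (Finset.univ.filter fun k => τ k = m).card = n m)
    (i0 m0 : Fin 3) (h0 : dm i0 = n m0) (hrest : ∀ i, i ≠ i0 → ∀ m, m ≠ m0 → dm i = n m) :
    ∃ s : F, s ≠ 0 ∧ ∃ f, Framed g (fun k => s * w ^ (τ k : ℕ)) f := by
  classical
  have hp : ∀ m : Fin 3, w ^ (m : ℕ) ≠ 0 := fun m => pow_ne_zero _ hw0
  have hc0 : cs i0 ≠ 0 := fun h => by simpa [h] using E.cs_cube i0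
  set s := cs i0 * (w ^ (m0 : ℕ))⁻¹
  have hs : s ≠ 0 := mul_ne_zero hc0 (inv_ne_zero (hp m0))
  choose idx hidx using fun m : Fin 3 => E.exists_index hF (mul_ne_zero hs (hp m))
  have hidx0 : idx m0 = i0 := E.cs_inj (by rw [hidx, mul_assoc, inv_mul_cancel₀ (hp m0), mul_one])
  have hinj : Function.Injective idx := fun m m' h =>
    omega_inj hF hw0 hw1 (mul_left_cancel₀ hs (show s * w ^ (m : ℕ) = s * w ^ (m' : ℕ) by rw [← hidx, ← hidx, h]))
  have hcard : ∀ i, (Finset.univ.filter fun k => idx (τ k) = i).card = dm i := fun i => by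
    obtain ⟨m, rfl⟩ := Finite.injective_iff_surjective.mp hinj i
    simp only [hinj.eq_iff, hτ]
    by_cases h : m = m0
    · rw [h, hidx0, h0]
    · exact (hrest _ (fun e => h (hinj (e.trans hidx0.symm))) m h).symm
  obtain ⟨f, hf1, hf2⟩ := exists_frame_map hF E _ hcard
  exact ⟨s, hs, f, hf1, fun k => by rw [hf2]; simp only [hidx]⟩

/-- a frame is carried to another one up to scalars -/
theorem exists_carry (hF : Fintype.card F = 2 ^ 2) {f f' : Fin 6 → Fin 6 → F}
    (hf : Orthonormal' 2 f) (hf' : Orthonormal' 2 f') :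
    ∃ h : Cfsg.SU 6 F 2, ∀ k, ∃ a : F, a ≠ 0 ∧ act h (f k) = a • f' k := by
  classical
  obtain ⟨A, hA⟩ := exists_GU_cols hF hf
  have hMA : A.1.1 = (Matrix.of f)ᵀ := by
    ext j i
    simpa using congrFun (hA i) j
  obtain ⟨A', hA'⟩ := exists_GU_cols hF hf'
  have hMA' : A'.1.1 = (Matrix.of f')ᵀ := by
    ext j i
    simpa using congrFun (hA' i) j
  have hd : A.1.1.det ≠ 0 := det_ne_zero_of_preserving hF A.2
  have hd' : A'.1.1.det ≠ 0 := det_ne_zero_of_preserving hF A'.2
  set t := A.1.1.det * A'.1.1.det⁻¹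
  have ht : t ≠ 0 := mul_ne_zero hd (inv_ne_zero hd')
  set f2 : Fin 6 → Fin 6 → F := Function.update f' 0 (t • f' 0)
  have hsc : ∀ k, ∃ a : F, a ≠ 0 ∧ f2 k = a • f' k := fun k => by
    by_cases hk : k = 0
    · subst hk; exact ⟨t, ht, Function.update_self _ _ _⟩
    · exact ⟨1, one_ne_zero, by rw [one_smul]; exact Function.update_of_ne hk _ _⟩
  have hf2 : Orthonormal' 2 f2 := fun k l => by
    obtain ⟨a, ha, ea⟩ := hsc k
    obtain ⟨a', ha', ea'⟩ := hsc l
    rw [ea, ea', herm_smul_left, herm_smul_right, hf' k l]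
    by_cases hkl : k = l
    · subst hkl
      have : a' = a := smul_left_injective F (orthonormal_linearIndependent hf' |>.ne_zero k)
        (ea'.symm.trans ea)
      rw [if_pos rfl, this, mul_one, norm_eq_one hF ha]
    · rw [if_neg hkl, mul_zero, mul_zero]
  obtain ⟨B, hB⟩ := exists_GU_cols hF hf2
  have hMB : B.1.1 = (Matrix.of f2)ᵀ := by
    ext j i
    simpa using congrFun (hB i) j
  have hdB : B.1.1.det = t * A'.1.1.det := by
    rw [hMB, hMA', Matrix.det_transpose, Matrix.det_transpose,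
      show Matrix.of f2 = (Matrix.of f').updateRow 0 (t • f' 0) from rfl, Matrix.det_updateRow_smul]
    congr 2
    exact Matrix.updateRow_eq_self _ _
  have hdet : (B * A⁻¹).1.1.det = 1 := by
    have hm : detGU 6 F 2 (B * A⁻¹) = 1 := by
      rw [map_mul, map_inv, mul_inv_eq_one]
      refine Units.ext ?_
      simp only [detGU_val]
      rw [hdB, mul_assoc, inv_mul_cancel₀ hd', mul_one]
    have := congrArg Units.val hm
    simpa using this
  obtain ⟨h, hh⟩ := exists_SU_of_GU hdet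
  refine ⟨h, fun k => ?_⟩
  obtain ⟨a, ha, ea⟩ := hsc k
  exact ⟨a, ha, by rw [act_def, hh, GU_mul_mulVec, ← hA k, GU_inv_mulVec, hB, ea]⟩

/-- conjugating one framed element to another -/
theorem exists_move_frame (hF : Fintype.card F = 2 ^ 2) {g g' : Cfsg.SU 6 F 2} {c : Fin 6 → F} {s s' : F}
    (hs' : s' ≠ 0) {f f' : Fin 6 → Fin 6 → F}
    (hf : Framed g (fun k => s * c k) f) (hf' : Framed g' (fun k => s' * c k) f') :
    ∃ h : Cfsg.SU 6 F 2, ∀ v, act (h * g * h⁻¹) v = (s * s'⁻¹) • act g' v := by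
  classical
  obtain ⟨h, hh⟩ := exists_carry hF hf.1 hf'.1
  refine ⟨h, ?_⟩
  let bB : Basis (Fin 6) F (Fin 6 → F) :=
    basisOfLinearIndependentOfCardEqFinrank (orthonormal_linearIndependent hf'.1) (by simp)
  have hlin : L (h * g * h⁻¹) = (s * s'⁻¹) • L g' := bB.ext fun k => by
    rw [LinearMap.smul_apply, Eleven.L_apply, Eleven.L_apply,
      show bB k = f' k from congrFun (coe_basisOfLinearIndependentOfCardEqFinrank _ _) k]
    obtain ⟨a, ha, ea⟩ := hh k
    have hinv : act h⁻¹ (f' k) = a⁻¹ • f k := by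
      have h1 : act h⁻¹ (act h (f k)) = f k := act_inv_self _ _
      rw [ea, act_smul] at h1
      rw [← h1, smul_smul, inv_mul_cancel₀ ha, one_smul]
    rw [act_mul, act_mul, hinv, act_smul, hf.2, act_smul, act_smul, ea, hf'.2, smul_smul, smul_smul, smul_smul]
    congr 1
    field_simp
  intro v
  have := LinearMap.congr_fun hlin v
  simpa [Eleven.L_apply] using this

/-- an element with a given frame -/
theorem exists_framed (hF : Fintype.card F = 2 ^ 2) {f : Fin 6 → Fin 6 → F} (hf : Orthonormal' 2 f)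
    (c : Fin 6 → F) (hc : ∀ k, c k ≠ 0) (hd : ∏ k, c k = 1) : ∃ g : Cfsg.SU 6 F 2, Framed g c f := by
  classical
  have hdet : ∃ g : Cfsg.SU 6 F 2, Framed g c (fun k => Pi.single k 1) := by
    refine ⟨⟨⟨Matrix.diagonal c, by rw [Matrix.det_diagonal, hd]⟩, mem_SU_iff.mpr fun u v => ?_⟩,
      fun k l => herm_std hF k l, fun k => ?_⟩
    · simp only [Cfsg.hermForm, Matrix.mulVec_diagonal]
      refine Finset.sum_congr rfl fun k _ => ?_
      linear_combination (u k * v k ^ 2) * norm_eq_one hF (hc k)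
    · rw [act_def]
      ext j
      simp only [Matrix.mulVec_diagonal, Pi.smul_apply, smul_eq_mul]
      by_cases h : j = k
      · subst h; simp
      · simp [h]
  obtain ⟨g, hg⟩ := hdet
  obtain ⟨h, hh⟩ := exists_carry hF hg.1 hf
  refine ⟨h * g * h⁻¹, hf, fun k => ?_⟩
  obtain ⟨a, ha, ea⟩ := hh k
  have hinv : act h⁻¹ (f k) = a⁻¹ • Pi.single k 1 := by
    have h1 : act h⁻¹ (act h (Pi.single k 1)) = Pi.single k 1 := act_inv_self _ _
    rw [ea, act_smul] at h1
    rw [← h1, smul_smul, inv_mul_cancel₀ ha, one_smul]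
  rw [act_mul, act_mul, hinv, act_smul, hg.2, act_smul, act_smul, ea, smul_smul, smul_smul]
  congr 1
  field_simp

/-- diagonal elements -/
theorem exists_diag (hF : Fintype.card F = 2 ^ 2) (c : Fin 6 → F) (hc : ∀ k, c k ≠ 0) (hd : ∏ k, c k = 1) :
    ∃ g : Cfsg.SU 6 F 2, Framed g c (fun k => Pi.single k 1) := exists_framed hF (fun k l => herm_std hF k l) c hc hd

end Unitary

variable {G : Type*} [Group G] [Finite G] {D : Set G}
variable {F : Type} [Field F] [Fintype F]
variable (S : Sys D F)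

/-- the multiplicities of the three shapes -/
def mult (i : Fin 3) : Fin 6 → Fin 3 :=
  ![![0, 0, 0, 0, 1, 2], ![0, 0, 0, 1, 1, 1], ![0, 0, 1, 1, 2, 2]] i

/-- their numbers of neighbours -/
def nums : Fin 3 → ℕ := ![45, 18, 9]

include S in
/-- a frame for a lift -/
theorem frame_of_count {y d : G} (hy3 : y ^ 3 = 1) (hy : y ≠ 1) (hd : d ∈ D) (hyd : Commute y d) {w : F}
    (hw0 : w ≠ 0) (hw1 : w ≠ 1) {i : Fin 3} (hn : (nbr D y d).ncard = nums i) :
    ∃ g, IsLift (S.ctx d hd) g y ∧ ∃ s : F, s ≠ 0 ∧ ∃ f, Framed g (fun k => s * w ^ (mult i k : ℕ)) f := by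
  have hF := (S.ctx d hd).hF
  obtain ⟨g, hg, hl⟩ := exists_lift S hy3 hd hyd
  obtain ⟨cs, dm, b, E⟩ := exists_decomp hF hg
  refine ⟨g, hl, ?_⟩
  have hs := shape_of_count S hy3 hy hd hl E
  have hsum := E.sum_dim
  obtain rfl | rfl | rfl : i = 0 ∨ i = 1 ∨ i = 2 := by fin_cases i <;> simp
  all_goals simp only [nums, Matrix.cons_val_zero, Matrix.cons_val_one, Matrix.cons_val] at hn
  · have h : ∀ i, dm i = 4 ∨ dm i = 1 := by rcases hs with h | h | h <;> [exact h.2; omega; omega]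
    obtain ⟨i0, h0⟩ : ∃ i0, dm i0 = 4 := by
      by_contra hcon
      push Not at hcon
      have := (h 0).resolve_left (hcon 0)
      have := (h 1).resolve_left (hcon 1)
      have := (h 2).resolve_left (hcon 2)
      omega
    refine exists_frame hF E hw0 hw1 _ ![4, 1, 1] (by decide) i0 0 h0 fun j hj m hm => ?_
    have hj1 : dm j = 1 := by
      rcases h j with hj4 | hj1
      · exfalso
        rcases h 0 with a | a <;> rcases h 1 with a' | a' <;> rcases h 2 with a'' | a'' <;>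
          fin_cases j <;> fin_cases i0 <;> simp_all
      · exact hj1
    rw [hj1]
    fin_cases m <;> simp at hm ⊢
  · have h : ∀ i, dm i = 3 ∨ dm i = 0 := by rcases hs with h | h | h <;> [omega; exact h.2; omega]
    obtain ⟨i0, h0⟩ : ∃ i0, dm i0 = 0 := by
      by_contra hcon
      push Not at hcon
      have := (h 0).resolve_right (hcon 0)
      have := (h 1).resolve_right (hcon 1)
      have := (h 2).resolve_right (hcon 2)
      omega
    refine exists_frame hF E hw0 hw1 _ ![3, 3, 0] (by decide) i0 2 h0 fun j hj m hm => ?_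
    have hj3 : dm j = 3 := by
      rcases h j with hj3 | hj0
      · exact hj3
      · exfalso
        rcases h 0 with a | a <;> rcases h 1 with a' | a' <;> rcases h 2 with a'' | a'' <;>
          fin_cases j <;> fin_cases i0 <;> simp_all
    rw [hj3]
    fin_cases m <;> simp at hm ⊢
  · have h : ∀ i, dm i = 2 := by rcases hs with h | h | h <;> [omega; omega; exact h.2]
    exact exists_frame hF E hw0 hw1 _ ![2, 2, 2] (by decide) 0 0 (h 0) fun j _ m _ => by
      rw [h j]; fin_cases m <;> rfl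

theorem image_conj_mem (hD : Cfsg.IsThreeTranspositionGroup D) {g y d z : G} :
    g * z * g⁻¹ ∈ nbr D (g * y * g⁻¹) (g * d * g⁻¹) ↔ z ∈ nbr D y d :=
  and_congr (conj_mem_perp_iff hD g d z) (commute_conj_iff g y z)

theorem ncard_nbr_move (hD : Cfsg.IsThreeTranspositionGroup D) (g y d : G) :
    (nbr D (g * y * g⁻¹) (g * d * g⁻¹)).ncard = (nbr D y d).ncard := by
  have h : nbr D (g * y * g⁻¹) (g * d * g⁻¹) = (fun z => g * z * g⁻¹) '' nbr D y d := by
    ext z
    constructor
    · intro hz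
      refine ⟨g⁻¹ * z * g, (image_conj_mem hD (g := g)).mp ?_, by group⟩
      simpa [mul_assoc] using hz
    · rintro ⟨w, hw, rfl⟩
      exact (image_conj_mem hD).mpr hw
  rw [h, Set.ncard_image_of_injective _ fun u v h => by simpa using h]

theorem ncard_fixd_move (hD : Cfsg.IsThreeTranspositionGroup D) (g y : G) :
    (fixd D (g * y * g⁻¹)).ncard = (fixd D y).ncard := by
  have h : fixd D (g * y * g⁻¹) = (fun z => g * z * g⁻¹) '' fixd D y := by
    ext z
    constructor
    · intro hz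
      refine ⟨g⁻¹ * z * g, ⟨by simpa using hD.2.1 g⁻¹ z hz.1, (commute_conj_iff g _ _).mp ?_⟩, by group⟩
      simpa [mul_assoc] using hz.2
    · rintro ⟨w, hw, rfl⟩
      exact ⟨hD.2.1 g w hw.1, (commute_conj_iff g y w).mpr hw.2⟩
  rw [h, Set.ncard_image_of_injective _ fun u v h => by simpa using h]

include S in
/-- conjugacy of pairs from the number of neighbours -/
theorem conj_pair {y y' d d' : G} (hy3 : y ^ 3 = 1) (hy : y ≠ 1) (hy'3 : y' ^ 3 = 1) (hy' : y' ≠ 1)
    (hd : d ∈ fixd D y) (hd' : d' ∈ fixd D y') (hn : (nbr D y d).ncard = (nbr D y' d').ncard) :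
    ∃ k, k * y * k⁻¹ = y' ∧ k * d * k⁻¹ = d' := by
  obtain ⟨g0, hg0⟩ := S.hprim.1 d hd.1 d' hd'.1
  have h1 : (g0 * y * g0⁻¹) ^ 3 = 1 := by rw [conj_pow, hy3]; simp
  have h2 : g0 * y * g0⁻¹ ≠ 1 := by simpa using hy
  have h3 : Commute (g0 * y * g0⁻¹) d' := hg0 ▸ (commute_conj_iff g0 y d).mpr hd.2
  have h4 : (nbr D (g0 * y * g0⁻¹) d').ncard = (nbr D y' d').ncard := by
    rw [← hn, ← hg0, ncard_nbr_move S.hD]
  suffices ∃ k, k * (g0 * y * g0⁻¹) * k⁻¹ = y' ∧ k * d' * k⁻¹ = d' by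
    obtain ⟨k, hk, hk'⟩ := this
    exact ⟨k * g0, by rw [← hk]; group, by rw [← hk', ← hg0]; group⟩
  set x := g0 * y * g0⁻¹
  set C := S.ctx d' hd'.1
  obtain ⟨w, hw0, hw1, -⟩ := exists_omega C.hF
  obtain ⟨i, hi⟩ : ∃ i, (nbr D y' d').ncard = nums i := by
    rcases ncard_nbr_cases S hy'3 hy' hd'.1 hd'.2 with h | h | h
    exacts [⟨0, h⟩, ⟨1, h⟩, ⟨2, h⟩]
  obtain ⟨g, hl, s, hs, f, hf⟩ := frame_of_count S h1 h2 hd'.1 h3 hw0 hw1 (h4.trans hi)
  obtain ⟨g', hl', s', hs', f', hf'⟩ := frame_of_count S hy'3 hy' hd'.1 hd'.2 hw0 hw1 hi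
  obtain ⟨h, hh⟩ := exists_move_frame C.hF hs' hf hf'
  obtain ⟨⟨k, hk⟩, hkφ⟩ := QuotientGroup.mk_surjective (C.φ h)
  refine ⟨k, ?_, TraceCounts.Sys.closure_fix hk⟩
  have hz : g'⁻¹ * (h * g * h⁻¹) ∈ C.φ.ker := by
    rw [C.ker_eq, mem_center_SU_iff C.hF (by norm_num)]
    refine ⟨s * s'⁻¹, fun v => ?_⟩
    show act (g'⁻¹ * (h * g * h⁻¹)) v = _
    rw [act_mul, hh, act_smul, act_inv_self]
  rw [MonoidHom.mem_ker, map_mul, map_inv, inv_mul_eq_one, map_mul, map_mul, map_inv] at hz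
  obtain ⟨hxH, hxφ⟩ := hl
  obtain ⟨hyH, hyφ⟩ := hl'
  rw [hxφ, hyφ, ← hkφ] at hz
  have hz' : (⟨y', hyH⟩ : ↥(Subgroup.closure (perp D d')))⁻¹ * (⟨k, hk⟩ * ⟨x, hxH⟩ * ⟨k, hk⟩⁻¹) ∈
      Subgroup.center ↥(Subgroup.closure (perp D d')) := QuotientGroup.eq.mp hz
  have hc := center_perp S hd'.1 (mul_mem (inv_mem hyH) (mul_mem (mul_mem hk hxH) (inv_mem hk))) fun v hv =>
    congrArg Subtype.val (Subgroup.mem_center_iff.mp hz' ⟨v, Subgroup.subset_closure hv⟩)
  rcases hc with hc | hc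
  · exact (inv_mul_eq_one.mp hc).symm
  · exfalso
    have hc' : k * x * k⁻¹ = y' * d' := eq_mul_of_inv_mul_eq hc
    have h6 := congrArg (· ^ 3) hc'
    simp only [conj_pow, h1, mul_one, mul_inv_cancel] at h6
    rw [hd'.2.mul_pow, hy'3, one_mul, pow_succ, pow_two, mul_self S.hD.1 hd'.1, one_mul] at h6
    have h7 := S.hD.1.1 d' hd'.1
    rw [← h6, orderOf_one] at h7
    norm_num at h7

include S in
/-- conjugacy from the number of neighbours -/
theorem conj_of_count {y y' d d' : G} (hy3 : y ^ 3 = 1) (hy : y ≠ 1) (hy'3 : y' ^ 3 = 1) (hy' : y' ≠ 1)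
    (hd : d ∈ fixd D y) (hd' : d' ∈ fixd D y') (hn : (nbr D y d).ncard = (nbr D y' d').ncard) :
    ∃ k, k * y * k⁻¹ = y' :=
  (conj_pair S hy3 hy hy'3 hy' hd hd' hn).imp fun _ h => h.1

theorem prod_mult {w : F} (h : w ^ 3 = 1) (i : Fin 3) : ∏ k, w ^ (mult i k : ℕ) = 1 := by
  rw [Finset.prod_pow_eq_pow_sum]
  have : (∑ k, (mult i k : ℕ)) % 3 = 0 := by revert i; decide
  rw [pow_eq_pow_mod _ h, this, pow_zero]

include S in
/-- all three numbers occur, with frames -/
theorem exists_count {d : G} (hd : d ∈ D) {w : F} (hw0 : w ≠ 0) (hw1 : w ≠ 1) (i : Fin 3) :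
    ∃ y g, y ^ 3 = 1 ∧ y ≠ 1 ∧ Commute y d ∧ IsLift (S.ctx d hd) g y ∧
      Framed g (fun k => w ^ (mult i k : ℕ)) (fun k => Pi.single k 1) ∧ (nbr D y d).ncard = nums i := by
  classical
  set C := S.ctx d hd
  obtain ⟨g, hg⟩ := exists_diag C.hF (fun k => w ^ (mult i k : ℕ)) (fun k => pow_ne_zero _ hw0)
    (prod_mult (Cfsg.Agent.Lib.UnitaryFour.Transvection.cube_eq_one C.hF hw0) i)
  have hg3 : g ^ 3 = 1 := by
    refine ext' fun v => ?_
    let bB : Basis (Fin 6) F (Fin 6 → F) :=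
      basisOfLinearIndependentOfCardEqFinrank (orthonormal_linearIndependent hg.1) (by simp)
    have : L (g ^ 3) = L (1 : Cfsg.SU 6 F 2) := bB.ext fun k => by
      rw [show bB k = Pi.single k 1 from congrFun (coe_basisOfLinearIndependentOfCardEqFinrank _ _) k,
        Eleven.L_apply, Eleven.L_apply, act_one, pow_succ, pow_two, act_mul, act_mul, hg.2, act_smul, hg.2,
        act_smul, act_smul, hg.2, smul_smul, smul_smul]
      rw [show w ^ (mult i k : ℕ) * w ^ (mult i k : ℕ) * w ^ (mult i k : ℕ) = (w ^ (mult i k : ℕ)) ^ 3 by ring,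
        Cfsg.Agent.Lib.UnitaryFour.Transvection.cube_eq_one C.hF (pow_ne_zero _ hw0), one_smul]
    exact LinearMap.congr_fun this v
  obtain ⟨k, hk⟩ := QuotientGroup.mk_surjective (C.φ g)
  have hk3 : k ^ 3 ∈ Subgroup.center ↥(Subgroup.closure (perp D d)) := by
    rw [← QuotientGroup.eq_one_iff, QuotientGroup.mk_pow, hk, ← map_pow, hg3, map_one]
  have hk6 : ((k ^ 3 : ↥(Subgroup.closure (perp D d))) : G) * (k ^ 3 : ↥(Subgroup.closure (perp D d))) = 1 := by
    rcases center_perp S hd (k ^ 3).2 fun v hv =>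
      congrArg Subtype.val (Subgroup.mem_center_iff.mp hk3 ⟨v, Subgroup.subset_closure hv⟩) with h | h
    · rw [h, one_mul]
    · rw [h, mul_self S.hD.1 hd]
  set y := (k : G) ^ 4
  have hy3 : y ^ 3 = 1 := by
    simp only [y, ← pow_mul]
    rw [show 4 * 3 = (3 + 3) * 2 from rfl, pow_mul, pow_add]
    simp only [SubmonoidClass.coe_pow] at hk6
    rw [hk6, one_pow]
  have hlift : IsLift C g y := ⟨pow_mem k.2 4, by
    show C.φ g = QuotientGroup.mk (k ^ 4)
    rw [QuotientGroup.mk_pow, hk, ← map_pow, show g ^ 4 = g by rw [pow_succ, hg3, one_mul]]⟩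
  have hy1 : y ≠ 1 := by
    intro h
    obtain ⟨hyH, hyφ⟩ := hlift
    have hker : g ∈ C.φ.ker := by
      rw [MonoidHom.mem_ker, hyφ, show (⟨y, hyH⟩ : ↥(Subgroup.closure (perp D d))) = 1 from Subtype.ext h]
      rfl
    obtain ⟨l, hl⟩ := (mem_center_SU_iff C.hF (by norm_num) _).mp (C.ker hker)
    have key : ∀ j, w ^ (mult i j : ℕ) = l := fun j => smul_left_injective F
      ((orthonormal_linearIndependent hg.1).ne_zero j) ((hg.2 j).symm.trans (hl _))
    have := omega_inj C.hF hw0 hw1 ((key 0).trans (key 5).symm)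
    revert this
    fin_cases i <;> decide
  have hyd : Commute y d := by
    have := (Levels.commute_closure (u := d) (fun s hs => hs.2.2) (k : G) k.2).symm
    exact this.pow_left 4
  refine ⟨y, g, hy3, hy1, hyd, hlift, hg, ?_⟩
  obtain ⟨cs, dm, b, E⟩ := exists_decomp C.hF hg3
  have hs := shape_of_count S hy3 hy1 hd hlift E
  have hsum := E.sum_dim
  choose idx hidx using fun m : Fin 3 => E.exists_index C.hF (pow_ne_zero (m : ℕ) hw0)
  have hne : idx 0 ≠ idx 1 ∧ idx 0 ≠ idx 2 ∧ idx 1 ≠ idx 2 := by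
    have hi : Function.Injective idx := fun m m' h => omega_inj C.hF hw0 hw1 (show w ^ (m : ℕ) = w ^ (m' : ℕ) by rw [← hidx, ← hidx, h])
    exact ⟨hi.ne (by decide), hi.ne (by decide), hi.ne (by decide)⟩
  have hlow : ∀ (m : Fin 3) {n : ℕ} (p : Fin n → Fin 6), Function.Injective p → (∀ t, mult i (p t) = m) →
      n ≤ dm (idx m) := fun m {n} p hp hm =>
    le_dim E (f := fun t => Pi.single (p t) 1) (fun a b => by rw [hg.1]; exact if_congr hp.eq_iff rfl rfl)
      fun t => by rw [hg.2]; simp only [hm t, hidx]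
  fin_cases i
  · have h4 := hlow 0 ![0, 1, 2, 3] (by decide) (by decide)
    rcases hs with h | h | h
    · exact h.1
    · rcases h.2 (idx 0) with a | a <;> omega
    · have := h.2 (idx 0); omega
  · have h0 := hlow 0 ![0, 1, 2] (by decide) (by decide)
    have h1 := hlow 1 ![3, 4, 5] (by decide) (by decide)
    rcases hs with h | h | h
    · exfalso
      have a := (h.2 (idx 0)).resolve_right (by omega)
      have a' := (h.2 (idx 1)).resolve_right (by omega)
      revert a a' hne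
      generalize idx 0 = u, idx 1 = v, idx 2 = x
      intro hne a a'
      rcases h.2 0 with b | b <;> rcases h.2 1 with b' | b' <;> rcases h.2 2 with b'' | b'' <;>
        fin_cases u <;> fin_cases v <;> simp_all
    · exact h.1
    · have := h.2 (idx 0); omega
  · have h0 := hlow 0 ![0, 1] (by decide) (by decide)
    have h1 := hlow 1 ![2, 3] (by decide) (by decide)
    have h2 := hlow 2 ![4, 5] (by decide) (by decide)
    have hall : ∀ j, 2 ≤ dm j := fun j => by
      have hi : Function.Injective idx := fun m m' h => omega_inj C.hF hw0 hw1 (show w ^ (m : ℕ) = w ^ (m' : ℕ) by rw [← hidx, ← hidx, h])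
      obtain ⟨m, rfl⟩ := Finite.injective_iff_surjective.mp hi j
      fin_cases m <;> assumption
    rcases hs with h | h | h
    · exfalso
      have := hall 0; have := hall 1; have := hall 2
      rcases h.2 0 with a | a <;> rcases h.2 1 with a' | a' <;> rcases h.2 2 with a'' | a'' <;> omega
    · exfalso
      have := hall 0; have := hall 1; have := hall 2
      rcases h.2 0 with a | a <;> rcases h.2 1 with a' | a' <;> rcases h.2 2 with a'' | a'' <;> omega
    · exact h.1

end Cfsg.Agent.Lib.FischerMTypes.Threes
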