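import Mathlib
import Cfsg.Agent.Lib.FischerMTypes.Thirteen.Invol
import Cfsg.Agent.Lib.FischerMTypes.Threes.Frames

/-!
Type M(22): the six transpositions through a commuting triple and the permutations of them that
conjugation realises.
-/

set_option autoImplicit false
set_option linter.style.haveILetI false
set_option linter.unusedSectionVars false

namespace Cfsg.Agent.Lib.FischerMTypes.Threes

open Cfsg.Agent.Lib.FischerMTypes.Basic Cfsg.Agent.Lib.FischerMTypes.Primitive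
  Cfsg.Agent.Lib.FischerMTypes.PointModel Cfsg.Agent.Lib.FischerMTypes.Aut22
  Cfsg.Agent.Lib.FischerMTypes.StabilizerM22 Cfsg.Agent.Lib.FischerMTypes.Thirteen
open Cfsg.Agent.Lib.FischerMTypes.TraceCounts (Sys)
open Cfsg.Agent.Lib.Unitary Cfsg.Agent.Lib.UnitaryFour.Transvection

variable {G : Type*} [Group G] [Finite G] {D : Set G}
variable {F : Type} [Field F] [Fintype F]

local notation "h⟪" u ", " v "⟫" => Cfsg.hermForm 6 F 2 u v

theorem cl3_map (hD : Cfsg.IsThreeTranspositionGroup D) {g a b c x : G} :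
    g * x * g⁻¹ ∈ cl3 D (g * a * g⁻¹) (g * b * g⁻¹) (g * c * g⁻¹) ↔ x ∈ cl3 D a b c :=
  ⟨fun h => ⟨by simpa [mul_assoc] using hD.2.1 g⁻¹ _ h.1, (commute_conj_iff g a x).mp h.2.1,
      (commute_conj_iff g b x).mp h.2.2.1, (commute_conj_iff g c x).mp h.2.2.2⟩,
    fun h => ⟨hD.2.1 g x h.1, (commute_conj_iff g a x).mpr h.2.1, (commute_conj_iff g b x).mpr h.2.2.1,
      (commute_conj_iff g c x).mpr h.2.2.2⟩⟩

theorem six_map (hD : Cfsg.IsThreeTranspositionGroup D) {g a b c x : G} (hx : x ∈ six D a b c) :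
    g * x * g⁻¹ ∈ six D (g * a * g⁻¹) (g * b * g⁻¹) (g * c * g⁻¹) := by
  refine ⟨(cl3_map hD).mpr hx.1, fun y hy => ?_⟩
  have he : y = g * (g⁻¹ * y * g) * g⁻¹ := by group
  rw [he] at hy ⊢
  exact (commute_conj_iff g _ _).mpr (hx.2 _ ((cl3_map hD).mp hy))

variable (S : Sys D F)

include S in
/-- transitivity on commuting triples -/
theorem triple_move {a b c a' b' c' : G} (h : Tri D a b c) (h' : Tri D a' b' c') :
    ∃ g, g * a * g⁻¹ = a' ∧ g * b * g⁻¹ = b' ∧ g * c * g⁻¹ = c' := by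
  obtain ⟨g, hg⟩ := S.hprim.1 a h.ma a' h'.ma
  have hb : g * b * g⁻¹ ∈ perp D a' := hg ▸ (conj_mem_perp_iff S.hD g a b).mpr h.perp_b
  have hc : g * c * g⁻¹ ∈ perp D a' := hg ▸ (conj_mem_perp_iff S.hD g a c).mpr h.perp_c
  obtain ⟨k, hk, hkb, hkc⟩ := (S.lines a' h'.ma).trans _ hb _ hc (by simpa using h.nbc)
    ((commute_conj_iff g b c).mpr h.cbc) b' h'.perp_b c' h'.perp_c h'.nbc h'.cbc
  refine ⟨k * g, ?_, ?_, ?_⟩
  · calc k * g * a * (k * g)⁻¹ = k * (g * a * g⁻¹) * k⁻¹ := by group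
      _ = a' := by rw [hg, Sys.closure_fix hk]
  · calc k * g * b * (k * g)⁻¹ = k * (g * b * g⁻¹) * k⁻¹ := by group
      _ = b' := hkb
  · calc k * g * c * (k * g)⁻¹ = k * (g * c * g⁻¹) * k⁻¹ := by group
      _ = c' := hkc

include S in
theorem triangle_model : ∃ a b c : G, Tri D a b c ∧ ∃ g, g ^ 3 = 1 ∧ Commute g a ∧ Commute g b ∧ Commute g c ∧
    ∀ x ∈ six D a b c, Commute g x → x = a ∨ x = b ∨ x = c := by
  classical
  obtain ⟨d, hd, -⟩ := S.hprim.2.1
  set C := S.ctx d hd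
  obtain ⟨w, hw0, hw1, -⟩ := exists_omega C.hF
  obtain ⟨y, g, hy3, -, hyd, hl, hf, -⟩ := exists_count S hd hw0 hw1 2
  set e : Fin 6 → Fin 6 → F := fun k => Pi.single k 1
  set u := e 0 + e 1
  set v := e 2 + e 3
  have hu : h⟪u, u⟫ = 0 := by
    simp only [u, herm_add_left, herm_add_right _ _ _ C.hF, hf.1 _ _]
    norm_num
    linear_combination two_eq_zero C.hF
  have hv : h⟪v, v⟫ = 0 := by
    simp only [v, herm_add_left, herm_add_right _ _ _ C.hF, hf.1 _ _]
    norm_num [Fin.ext_iff]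
    linear_combination two_eq_zero C.hF
  have huv : h⟪u, v⟫ = 0 := by
    simp only [u, v, herm_add_left, herm_add_right _ _ _ C.hF, hf.1 _ _]
    norm_num [Fin.ext_iff]
  have hgu : act g u = (1 : F) • u := by
    rw [act_add, hf.2, hf.2]
    simp [mult, u]
  have hgv : act g v = w • v := by
    rw [act_add, hf.2, hf.2]
    simp [mult, v, smul_add]
  have hli : ∀ s t : F, s • u + t • v = 0 → s = 0 ∧ t = 0 := fun s t h => by
    have h0 := congrFun h 0
    have h2 := congrFun h 2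
    simp [u, v, e] at h0 h2
    exact ⟨h0, h2⟩
  have hu0 : u ≠ 0 := fun h => one_ne_zero (hli 1 0 (by simp [h])).1
  have hv0 : v ≠ 0 := fun h => one_ne_zero (hli 0 1 (by simp [h])).2
  have hne : C.pt u ≠ C.pt v := fun h => by
    obtain ⟨k, hk, e'⟩ := (C.pt_eq hu hu0 hv hv0).mp h
    exact hk (neg_eq_zero.mp (hli (-k) 1 (by rw [e', one_smul, neg_smul, neg_add_cancel])).1)
  have mu := C.pt_mem hu hu0
  have mv := C.pt_mem hv hv0
  have hT : Tri D d (C.pt u) (C.pt v) := ⟨hd, mu.1, mv.1, Ne.symm mu.2.1, Ne.symm mv.2.1, hne, mu.2.2,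
    mv.2.2, (C.pt_comm hu hu0 hv hv0).mpr huv⟩
  refine ⟨d, C.pt u, C.pt v, hT, y, hy3, hyd, (hl.commute_pt hu hu0).mpr ⟨1, one_ne_zero, hgu⟩,
    (hl.commute_pt hv hv0).mpr ⟨w, hw0, hgv⟩, ?_⟩
  have hz : ∀ a : F, h⟪u + a • v, u + a • v⟫ = 0 := fun a => by
    simp [herm_add_left, herm_add_right _ _ _ C.hF, herm_smul_left, herm_smul_right, hu, hv, huv,
      herm_eq_zero_symm C.hF huv]
  have hz0 : ∀ a : F, u + a • v ≠ 0 := fun a h => one_ne_zero (hli 1 a (by simpa using h)).1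
  set X : Set G := (fun a : F => C.pt (u + a • v)) '' {a | a ≠ 0}
  have hX : X ⊆ six D d (C.pt u) (C.pt v) \ {d, C.pt u, C.pt v} := by
    rintro _ ⟨a, ha, rfl⟩
    have ha' : a ≠ 0 := ha
    have m := C.pt_mem (hz a) (hz0 a)
    refine ⟨⟨⟨m.1, m.2.2, (C.pt_comm hu hu0 (hz a) (hz0 a)).mpr (by
      simp [herm_add_right _ _ _ C.hF, herm_smul_right, hu, huv]), (C.pt_comm hv hv0 (hz a) (hz0 a)).mpr (by
      simp [herm_add_right _ _ _ C.hF, herm_smul_right, hv, herm_eq_zero_symm C.hF huv])⟩, fun z hz' => ?_⟩, ?_⟩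
    · by_cases hzd : z = d
      · rw [hzd]; exact m.2.2.symm
      obtain ⟨q, hq, hq0, rfl⟩ := C.exists_pt (y := z) ⟨hz'.1, hzd, hz'.2.1⟩
      refine (C.pt_comm (hz a) (hz0 a) hq hq0).mpr ?_
      rw [herm_add_left, herm_smul_left, (C.pt_comm hu hu0 hq hq0).mp hz'.2.2.1,
        (C.pt_comm hv hv0 hq hq0).mp hz'.2.2.2, mul_zero, add_zero]
    · simp only [Set.mem_insert_iff, Set.mem_singleton_iff, not_or]
      refine ⟨m.2.1, fun h => ?_, fun h => ?_⟩
      · obtain ⟨k, -, e'⟩ := (C.pt_eq hu hu0 (hz a) (hz0 a)).mp h.symm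
        exact ha' (hli (1 - k) a (by rw [sub_smul, one_smul, sub_add_eq_add_sub, e', sub_self])).2
      · obtain ⟨k, -, e'⟩ := (C.pt_eq hv hv0 (hz a) (hz0 a)).mp h.symm
        exact one_ne_zero (hli 1 (a - k) (by
          rw [sub_smul, one_smul, ← add_sub_assoc, e', sub_self])).1
  have hXc : X.ncard = 3 := by
    rw [Set.InjOn.ncard_image]
    · rw [← Nat.card_coe_set_eq, Nat.card_eq_fintype_card]
      show Fintype.card {a : F // a ≠ 0} = 3
      rw [Fintype.card_subtype_compl, C.hF, Fintype.card_subtype_eq]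
      norm_num
    · intro a _ b _ h
      obtain ⟨k, -, e'⟩ := (C.pt_eq (hz a) (hz0 a) (hz b) (hz0 b)).mp h
      have h2 := hli (1 - k) (b - k * a) (by
        linear_combination (norm := module) e')
      rw [← sub_eq_zero.mp h2.1, one_mul] at h2
      exact (sub_eq_zero.mp h2.2).symm
  have hsub : ({d, C.pt u, C.pt v} : Set G) ⊆ six D d (C.pt u) (C.pt v) := by
    rintro x (rfl | rfl | rfl)
    exacts [hT.mem_six (Or.inl rfl), hT.mem_six (Or.inr (Or.inl rfl)), hT.mem_six (Or.inr (Or.inr rfl))]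
  have heq := Set.eq_of_subset_of_ncard_le hX (by
    have := Set.ncard_sdiff_add_ncard_of_subset hsub (Set.toFinite _)
    rw [ncard_six S hT, Set.ncard_eq_three.mpr ⟨_, _, _, hT.nab, hT.nac, hT.nbc, rfl⟩] at this
    omega) (Set.toFinite _)
  intro x hx hc
  by_contra hn
  have hxX : x ∈ X := by rw [heq]; exact ⟨hx, by simpa using hn⟩
  obtain ⟨a, ha, rfl⟩ := hxX
  obtain ⟨k, -, hk⟩ := (hl.commute_pt (hz a) (hz0 a)).mp hc
  rw [act_add, act_smul, hgu, hgv, one_smul, smul_smul] at hk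
  have h2 := hli (1 - k) (a * w - k * a) (by linear_combination (norm := module) hk)
  rw [← sub_eq_zero.mp h2.1, one_mul] at h2
  exact hw1 (mul_left_cancel₀ ha (by rw [mul_one]; exact sub_eq_zero.mp h2.2))

include S in
/-- an element fixing a triple and moving the rest of its six -/
theorem exists_rho {a b c : G} (h : Tri D a b c) : ∃ g, g ^ 3 = 1 ∧ Commute g a ∧ Commute g b ∧ Commute g c ∧
    ∀ x ∈ six D a b c, Commute g x → x = a ∨ x = b ∨ x = c := by
  obtain ⟨a', b', c', h', g, g3, ga, gb, gc, hg⟩ := triangle_model S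
  obtain ⟨k, ka, kb, kc⟩ := triple_move S h' h
  refine ⟨k * g * k⁻¹, by rw [conj_pow, g3]; simp, ka ▸ (commute_conj_iff k g a').mpr ga,
    kb ▸ (commute_conj_iff k g b').mpr gb, kc ▸ (commute_conj_iff k g c').mpr gc, fun x hx hc => ?_⟩
  have hx' : k⁻¹ * x * k ∈ six D a' b' c' := by
    have := six_map S.hD (g := k⁻¹) hx
    rwa [inv_inv, show k⁻¹ * a * k = a' by rw [← ka]; group, show k⁻¹ * b * k = b' by rw [← kb]; group,
      show k⁻¹ * c * k = c' by rw [← kc]; group] at this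
  have hc' : Commute g (k⁻¹ * x * k) := by
    exact (commute_conj_iff k _ _).mp (by simpa [mul_assoc] using hc)
  rw [← ka, ← kb, ← kc]
  rcases hg _ hx' hc' with e | e | e <;> rw [← e]
  · exact Or.inl (by group)
  · exact Or.inr (Or.inl (by group))
  · exact Or.inr (Or.inr (by group))

/-- six commuting transpositions, the six of any three of them -/
structure Hex (D : Set G) (v : Fin 6 → G) : Prop where
  inj : Function.Injective v
  tri : Tri D (v 0) (v 1) (v 2)
  range : six D (v 0) (v 1) (v 2) = Set.range v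
  prod : v 3 * (v 4 * v 5) = v 0 * (v 1 * v 2)

/-- conjugation by `g` permutes the six by `π` -/
def Acts (v : Fin 6 → G) (g : G) (π : Equiv.Perm (Fin 6)) : Prop := ∀ x, g * v x * g⁻¹ = v (π x)

section Acts

variable {v : Fin 6 → G}

theorem Acts.one : Acts v 1 1 := fun x => by simp

theorem Acts.mul {g h : G} {π ρ : Equiv.Perm (Fin 6)} (hg : Acts v g π) (hh : Acts v h ρ) :
    Acts v (g * h) (π * ρ) := fun x => by
  rw [Equiv.Perm.mul_apply, ← hg, ← hh]; group

theorem Acts.inv {g : G} {π : Equiv.Perm (Fin 6)} (hg : Acts v g π) : Acts v g⁻¹ π⁻¹ := fun x => by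
  have := hg (π⁻¹ x)
  rw [show π (π⁻¹ x) = x by simp] at this
  rw [← this]; group

theorem Acts.unique {g : G} {π ρ : Equiv.Perm (Fin 6)} (hv : Function.Injective v) (h : Acts v g π)
    (h' : Acts v g ρ) : π = ρ := Equiv.ext fun x => hv ((h x).symm.trans (h' x))

theorem Acts.fix {g : G} {π : Equiv.Perm (Fin 6)} (hv : Function.Injective v) (h : Acts v g π) (x : Fin 6) :
    Commute g (v x) ↔ π x = x := by
  rw [← hv.eq_iff, ← h, mul_inv_eq_iff_eq_mul]
  exact Iff.rfl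

end Acts

include S in
theorem exists_hex {a b c : G} (h : Tri D a b c) : ∃ v : Fin 6 → G, Hex D v ∧ v 0 = a ∧ v 1 = b ∧ v 2 = c := by
  classical
  obtain ⟨p, q, r, -, hprod, hset⟩ := six_complement S h
  have hrange : Set.range ![a, b, c, p, q, r] = six D a b c := by
    rw [hset]
    simp only [Matrix.range_cons, Matrix.range_empty, Set.union_empty, Set.singleton_union]
  refine ⟨![a, b, c, p, q, r], ⟨?_, h, hrange.symm, hprod⟩, rfl, rfl, rfl⟩
  have h6 := ncard_six S h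
  rw [← hrange, Set.ncard_eq_toFinset_card', Set.toFinset_range] at h6
  intro i j hij
  exact (Finset.card_image_iff.mp (by rw [h6, Finset.card_univ, Fintype.card_fin]))
    (Finset.mem_coe.mpr (Finset.mem_univ i)) (Finset.mem_coe.mpr (Finset.mem_univ j)) hij

theorem Hex.mem {v : Fin 6 → G} (hv : Hex D v) (x : Fin 6) : v x ∈ six D (v 0) (v 1) (v 2) :=
  hv.range ▸ ⟨x, rfl⟩

theorem complement_three : ∀ i j k : Fin 6, i ≠ j → i ≠ k → j ≠ k →
    ∃ l m n : Fin 6, l ≠ m ∧ l ≠ n ∧ m ≠ n ∧ ∀ x, (x = l ∨ x = m ∨ x = n) ↔ ¬ (x = i ∨ x = j ∨ x = k) := by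
  decide +kernel

theorem swap_cycle : ∀ i j k : Fin 6, i ≠ j → i ≠ k → j ≠ k →
    (Equiv.swap i j * Equiv.swap j k) i = j ∧ (Equiv.swap i j * Equiv.swap j k) j = k ∧
      (Equiv.swap i j * Equiv.swap j k) k = i ∧
        ∀ x, ¬ (x = i ∨ x = j ∨ x = k) → (Equiv.swap i j * Equiv.swap j k) x = x := by
  decide +kernel

include S in
/-- every three-cycle is realised -/
theorem real_three {v : Fin 6 → G} (hv : Hex D v) {i j k : Fin 6} (nij : i ≠ j) (nik : i ≠ k) (njk : j ≠ k) :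
    ∃ g, g ^ 3 = 1 ∧ Acts v g (Equiv.swap i j * Equiv.swap j k) := by
  obtain ⟨pi, pj, pk, pf⟩ := swap_cycle i j k nij nik njk
  set π := Equiv.swap i j * Equiv.swap j k
  obtain ⟨l, m, n, nlm, nln, nmn, hc⟩ := complement_three i j k nij nik njk
  have hv' : Function.Injective v := hv.inj
  have hs : six D (v l) (v m) (v n) = Set.range v :=
    (six_eq S hv.tri (hv.mem l) (hv.mem m) (hv.mem n) (hv'.ne nlm) (hv'.ne nln) (hv'.ne nmn)).trans hv.range
  have ht : Tri D (v l) (v m) (v n) :=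
    ⟨(hv.mem l).1.1, (hv.mem m).1.1, (hv.mem n).1.1, hv'.ne nlm, hv'.ne nln, hv'.ne nmn,
      (hv.mem l).2 _ (hv.mem m).1, (hv.mem l).2 _ (hv.mem n).1, (hv.mem m).2 _ (hv.mem n).1⟩
  obtain ⟨g, g3, gl, gm, gn, hg⟩ := exists_rho S ht
  have hother : ∀ x, ¬ (x = i ∨ x = j ∨ x = k) → g * v x * g⁻¹ = v x := fun x hx => by
    rcases (hc x).mpr hx with rfl | rfl | rfl
    exacts [mul_inv_eq_iff_eq_mul.mpr gl, mul_inv_eq_iff_eq_mul.mpr gm, mul_inv_eq_iff_eq_mul.mpr gn]
  have hmove : ∀ x, (x = i ∨ x = j ∨ x = k) → ∃ y, (y = i ∨ y = j ∨ y = k) ∧ y ≠ x ∧ g * v x * g⁻¹ = v y := by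
    intro x hx
    have h1 : g * v x * g⁻¹ ∈ six D (v l) (v m) (v n) := by
      have := six_map S.hD (g := g) (show v x ∈ six D (v l) (v m) (v n) by rw [hs]; exact ⟨x, rfl⟩)
      rwa [hother l ((hc l).mp (Or.inl rfl)), hother m ((hc m).mp (Or.inr (Or.inl rfl))),
        hother n ((hc n).mp (Or.inr (Or.inr rfl)))] at this
    rw [hs] at h1
    obtain ⟨y, hy⟩ := h1
    refine ⟨y, ?_, fun e => ?_, hy.symm⟩
    · by_contra hy'
      have : g * v x * g⁻¹ = g * v y * g⁻¹ := by rw [hother y hy']; exact hy.symm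
      exact hy' ((hv' (mul_left_cancel (mul_right_cancel this))) ▸ hx)
    · subst e
      have := hg (v y) (by rw [hs]; exact ⟨y, rfl⟩) (mul_inv_eq_iff_eq_mul.mp hy.symm)
      rcases this with e | e | e <;> exact (hc y).mp (by first | exact Or.inl (hv' e) | exact Or.inr (Or.inl (hv' e)) | exact Or.inr (Or.inr (hv' e))) hx
  have hinj : ∀ {x y z}, g * v x * g⁻¹ = v z → g * v y * g⁻¹ = v z → x = y := fun a b =>
    hv' (mul_left_cancel (mul_right_cancel (a.trans b.symm)))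
  have hdone : ∀ {u : G}, u * v i * u⁻¹ = v j → u * v j * u⁻¹ = v k → u * v k * u⁻¹ = v i →
      (∀ x, ¬ (x = i ∨ x = j ∨ x = k) → u * v x * u⁻¹ = v x) → Acts v u π := fun {u} a b c o x => by
    by_cases hx : x = i ∨ x = j ∨ x = k
    · rcases hx with rfl | rfl | rfl
      exacts [by rw [pi]; exact a, by rw [pj]; exact b, by rw [pk]; exact c]
    · rw [pf x hx]; exact o x hx
  obtain ⟨a, ha, nai, ea⟩ := hmove i (Or.inl rfl)
  obtain ⟨b, hb, nbj, eb⟩ := hmove j (Or.inr (Or.inl rfl))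
  obtain ⟨c, hc', nck, ec⟩ := hmove k (Or.inr (Or.inr rfl))
  have dab : a ≠ b := fun e => nij (hinj ea (e ▸ eb))
  have dac : a ≠ c := fun e => nik (hinj ea (e ▸ ec))
  have dbc : b ≠ c := fun e => njk (hinj eb (e ▸ ec))
  rcases ha with h | h | h
  · exact absurd h nai
  · subst h
    obtain rfl : b = k := by rcases hb with h | h | h <;> grind
    obtain rfl : c = i := by rcases hc' with h | h | h <;> grind
    exact ⟨g, g3, hdone ea eb ec hother⟩
  · subst h
    obtain rfl : b = i := by rcases hb with h | h | h <;> grind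
    obtain rfl : c = j := by rcases hc' with h | h | h <;> grind
    refine ⟨g⁻¹, by rw [inv_pow, g3, inv_one], hdone ?_ ?_ ?_ fun x hx => ?_⟩
    · conv_lhs => rw [← eb]
      group
    · conv_lhs => rw [← ec]
      group
    · conv_lhs => rw [← ea]
      group
    · conv_lhs => rw [← hother x hx]
      group

end Cfsg.Agent.Lib.FischerMTypes.Threes
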