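import Mathlib
import Cfsg.Agent.Lib.FischerMTypes.Eleven.Unitary

/-!
The orbit counting lemma for a parametrised group of elements acting on a set by conjugation.
-/

set_option autoImplicit false
set_option linter.style.haveILetI false
set_option linter.unusedSectionVars false

namespace Cfsg.Agent.Lib.FischerMTypes.Threes

variable {G : Type*} [Group G] [Finite G]

/-- the members of a set commuting with `g` -/
abbrev pts (U : Set G) (g : G) : Set G := {u | u ∈ U ∧ Commute g u}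

theorem burnside {ι : Type*} [Fintype ι] {f : ι → G} (hinj : Function.Injective f) {H : Subgroup G}
    (hH : ∀ g, g ∈ H ↔ ∃ i, f i = g) {U : Set G} (hU : ∀ i, ∀ u ∈ U, f i * u * (f i)⁻¹ ∈ U) :
    Fintype.card ι ∣ ∑ i, (pts U (f i)).ncard := by
  classical
  have hst : ∀ g ∈ H, ∀ u ∈ U, g * u * g⁻¹ ∈ U := fun g hg => by
    obtain ⟨i, rfl⟩ := (hH g).mp hg
    exact hU i
  letI : MulAction H U :=
    { smul := fun g u => ⟨g.1 * u.1 * g.1⁻¹, hst g.1 g.2 u.1 u.2⟩
      one_smul := fun u => Subtype.ext (show (1 : G) * u.1 * (1 : G)⁻¹ = u.1 by group)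
      mul_smul := fun g h u => Subtype.ext (show (g.1 * h.1) * u.1 * (g.1 * h.1)⁻¹ =
        g.1 * (h.1 * u.1 * h.1⁻¹) * g.1⁻¹ by group) }
  let e : ι ≃ H := Equiv.ofBijective (fun i => ⟨f i, (hH _).mpr ⟨i, rfl⟩⟩)
    ⟨fun i j h => hinj (congrArg Subtype.val h), fun g => by
      obtain ⟨i, hi⟩ := (hH g).mp g.2
      exact ⟨i, Subtype.ext hi⟩⟩
  let : Fintype H := Fintype.ofEquiv ι e
  let : Fintype U := Fintype.ofFinite U
  have key := MulAction.sum_card_fixedBy_eq_card_orbits_mul_card_group H U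
  rw [← e.sum_comp, ← Fintype.card_congr e] at key
  refine (dvd_mul_left _ _).trans (dvd_of_eq (key.symm.trans (Finset.sum_congr rfl fun i _ => ?_)))
  rw [← Nat.card_eq_fintype_card, ← Nat.card_coe_set_eq]
  exact Nat.card_congr
    { toFun := fun u => ⟨u.1.1, u.1.2, mul_inv_eq_iff_eq_mul.mp (congrArg Subtype.val u.2)⟩
      invFun := fun u => ⟨⟨u.1, u.2.1⟩, Subtype.ext (mul_inv_eq_iff_eq_mul.mpr u.2.2)⟩
      left_inv := fun _ => rfl
      right_inv := fun _ => rfl }

theorem pts_one (U : Set G) : pts U 1 = U := Set.ext fun u => ⟨fun h => h.1, fun h => ⟨h, Commute.one_left u⟩⟩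

/-- the powers of one element -/
theorem burnside_cyclic {x : G} {n : ℕ} (hx : orderOf x = n) {U : Set G} (hU : ∀ u ∈ U, x * u * x⁻¹ ∈ U) :
    n ∣ ∑ i : Fin n, (pts U (x ^ (i : ℕ))).ncard := by
  subst hx
  have hpow : ∀ i : ℕ, ∀ u ∈ U, x ^ i * u * (x ^ i)⁻¹ ∈ U := by
    intro i
    induction i with
    | zero => intro u hu; simpa using hu
    | succ i ih =>
      intro u hu
      rw [show x ^ (i + 1) * u * (x ^ (i + 1))⁻¹ = x * (x ^ i * u * (x ^ i)⁻¹) * x⁻¹ by rw [pow_succ']; group]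
      exact hU _ (ih u hu)
  have h := burnside (f := fun i : Fin (orderOf x) => x ^ (i : ℕ))
    (fun i j h => Fin.ext (by
      have := pow_eq_pow_iff_modEq.mp h
      rwa [Nat.ModEq, Nat.mod_eq_of_lt i.2, Nat.mod_eq_of_lt j.2] at this))
    (H := Subgroup.zpowers x) (fun g => ⟨fun hg => by
      obtain ⟨i, hi⟩ := (isOfFinOrder_of_finite x).mem_powers_iff_mem_zpowers.mpr hg
      exact ⟨⟨i % orderOf x, Nat.mod_lt _ (orderOf_pos x)⟩, (pow_mod_orderOf x i).trans hi⟩,
      fun ⟨i, hi⟩ => hi ▸ pow_mem (Subgroup.mem_zpowers x) _⟩) (U := U) fun i => hpow i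
  rwa [Fintype.card_fin] at h

theorem burnside_two {x : G} (hx : orderOf x = 2) {U : Set G} (hU : ∀ u ∈ U, x * u * x⁻¹ ∈ U) :
    2 ∣ U.ncard + (pts U x).ncard := by
  have h := burnside_cyclic hx hU
  rw [Fin.sum_univ_two] at h
  simpa [pts_one] using h

theorem pts_sq {x : G} (hx : x ^ 3 = 1) (U : Set G) : pts U (x ^ 2) = pts U x :=
  Set.ext fun u => and_congr_right fun _ =>
    ⟨fun h => by
      have := h.pow_left 2
      rwa [← pow_mul, show 2 * 2 = 3 + 1 from rfl, pow_succ, hx, one_mul] at this,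
      fun h => h.pow_left 2⟩

theorem burnside_three {x : G} (hx : orderOf x = 3) {U : Set G} (hU : ∀ u ∈ U, x * u * x⁻¹ ∈ U) :
    3 ∣ U.ncard + 2 * (pts U x).ncard := by
  have h := burnside_cyclic hx hU
  rw [Fin.sum_univ_three] at h
  simp only [Fin.val_zero, Fin.val_one, Fin.val_two, pow_zero, pow_one, pts_one,
    pts_sq (hx ▸ pow_orderOf_eq_one x)] at h
  omega

end Cfsg.Agent.Lib.FischerMTypes.Threes
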