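import Mathlib
import Cfsg.Agent.Lib.FischerMTypes.Aut22.Six
import Cfsg.Agent.Lib.FischerMTypes.Threes.Frames

/-!
Type M(22): the widths of the sets centralised by elements of order three.
-/

set_option autoImplicit false
set_option linter.style.haveILetI false
set_option linter.unusedSectionVars false

namespace Cfsg.Agent.Lib.FischerMTypes.Threes

open Cfsg.Agent.Lib.FischerMTypes.Basic Cfsg.Agent.Lib.FischerMTypes.Primitive
  Cfsg.Agent.Lib.FischerMTypes.Aut22 Cfsg.Agent.Lib.FischerMTypes.Thirteen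
open Cfsg.Agent.Lib.FischerMTypes.TraceCounts (Sys)

variable {G : Type*} [Group G] [Finite G] {D : Set G}
variable {F : Type} [Field F] [Fintype F]

/-- width from a bound and a witness -/
theorem width_eq {T : Set G} {n : ℕ}
    (hle : ∀ E ⊆ T, (∀ a ∈ E, ∀ b ∈ E, Commute a b) → E.ncard ≤ n)
    (hex : ∃ E ⊆ T, (∀ a ∈ E, ∀ b ∈ E, Commute a b) ∧ E.ncard = n) : Cfsg.commutingWidth T = n := by
  have hle' : ∀ m ∈ {m : ℕ | ∃ E : Set G, E ⊆ T ∧ E.Finite ∧ (∀ a ∈ E, ∀ b ∈ E, Commute a b) ∧ E.ncard = m},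
      m ≤ n := by
    rintro _ ⟨E, hE, -, hc, rfl⟩
    exact hle E hE hc
  obtain ⟨E, hE, hc, hn⟩ := hex
  have hmem : n ∈ {m : ℕ | ∃ E : Set G, E ⊆ T ∧ E.Finite ∧ (∀ a ∈ E, ∀ b ∈ E, Commute a b) ∧ E.ncard = m} :=
    ⟨E, hE, Set.toFinite _, hc, hn⟩
  exact le_antisymm (csSup_le ⟨n, hmem⟩ hle') (le_csSup ⟨n, hle'⟩ hmem)

theorem width_empty : Cfsg.commutingWidth (∅ : Set G) = 0 :=
  width_eq (fun E hE _ => by rw [Set.subset_empty_iff.mp hE, Set.ncard_empty])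
    ⟨∅, subset_rfl, fun _ h => h.elim, Set.ncard_empty _⟩

/-- parts: a clique meets each part once -/
theorem parts_clique {y d : G} {k q : ℕ} (h : TypeParts D y d k q) {E : Set G} (hE : E ⊆ nbr D y d)
    (hc : ∀ a ∈ E, ∀ b ∈ E, Commute a b) : E.ncard * q ≤ k := by
  classical
  set N := nbr D y d
  let P : G → Set G := fun u => {v | v ∈ N ∧ v ∉ perp D u}
  have hP : ∀ u ∈ N, (P u).ncard = q := fun u hu => by
    have h1 : {v | v ∈ N ∧ v ∈ perp D u}.ncard + q = k := h.2.1 u hu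
    have h2 := Set.ncard_sdiff_add_ncard_of_subset (s := {v | v ∈ N ∧ v ∈ perp D u}) (t := N)
      (fun v hv => hv.1) (Set.toFinite _)
    rw [show N.ncard = k from h.1, show N \ {v | v ∈ N ∧ v ∈ perp D u} = P u from
      Set.ext fun v => ⟨fun hv => ⟨hv.1, fun hh => hv.2 ⟨hv.1, hh⟩⟩, fun hv => ⟨hv.1, fun hh => hv.2 hh.2⟩⟩] at h2
    omega
  set Es := (Set.toFinite E).toFinset
  let Ps : G → Finset G := fun u => (Set.toFinite (P u)).toFinset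
  have hdis : ∀ u ∈ Es, ∀ u' ∈ Es, u ≠ u' → Disjoint (Ps u) (Ps u') := by
    intro u hu u' hu' hne
    rw [Finset.disjoint_left]
    intro v hv hv'
    simp only [Es, Ps, Set.Finite.mem_toFinset] at hu hu' hv hv'
    have hnu : u' ∉ perp D v := fun hh => hv'.2 ⟨hv'.1.1.1, Ne.symm hh.2.1, hh.2.2.symm⟩
    exact h.2.2 u (hE hu) v hv.1 u' (hE hu') hv.2 hnu
      ⟨(hE hu').1.1, Ne.symm hne, hc u hu u' hu'⟩
  have hcard := Finset.card_biUnion hdis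
  have hsub : Es.biUnion Ps ⊆ (Set.toFinite N).toFinset := fun v hv => by
    obtain ⟨u, -, hu⟩ := Finset.mem_biUnion.mp hv
    simp only [Ps, Set.Finite.mem_toFinset] at hu ⊢
    exact hu.1
  have := Finset.card_le_card hsub
  rw [hcard, ← Set.ncard_eq_toFinset_card, show N.ncard = k from h.1, Finset.sum_const_nat (m := q) fun u hu => by
    simp only [Es, Set.Finite.mem_toFinset] at hu
    rw [← Set.ncard_eq_toFinset_card, hP u (hE hu)]] at this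
  rwa [← Set.ncard_eq_toFinset_card] at this

variable (S : Sys D F)

include S in
/-- in the first type the six of a fixed triple is fixed -/
theorem six_fixed {y a b c : G} (hy3 : y ^ 3 = 1) (hy : y ≠ 1) (h : Tri D a b c) (ha : Commute y a)
    (h45 : (nbr D y a).ncard = 45) (hb : Commute y b) (hc : Commute y c) :
    ∀ x ∈ six D a b c, Commute y x := by
  intro x hx
  by_cases hxa : x = a
  · rw [hxa]; exact ha
  obtain ⟨p, hp, q, hq, -, he⟩ := typeFour_of S hy3 hy h.ma ha h45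
  have mb := (Set.ext_iff.mp he b).mp ⟨h.perp_b, hb⟩
  have mc := (Set.ext_iff.mp he c).mp ⟨h.perp_c, hc⟩
  have hp' : p ∈ cl3 D a b c := ⟨hp.1, hp.2.2, mb.2.1.symm, mc.2.1.symm⟩
  have hq' : q ∈ cl3 D a b c := ⟨hq.1, hq.2.2, mb.2.2.symm, mc.2.2.symm⟩
  exact ((Set.ext_iff.mp he x).mpr ⟨⟨hx.1.1, hxa, hx.1.2.1⟩, (hx.2 p hp').symm, (hx.2 q hq').symm⟩).2

include S in
theorem four_clique {y d : G} (hy3 : y ^ 3 = 1) (hy : y ≠ 1) (hd : d ∈ fixd D y)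
    (h45 : (nbr D y d).ncard = 45) {E : Set G} (hE : E ⊆ nbr D y d) (hc : ∀ a ∈ E, ∀ b ∈ E, Commute a b) :
    E.ncard ≤ 5 := by
  classical
  by_cases h2 : E.ncard ≤ 1
  · omega
  obtain ⟨u, v, hu, hv, hne⟩ := (Set.one_lt_ncard_iff (Set.toFinite E)).mp (by omega)
  have h3 := (quad_facts S hd.1 (typeFour_of S hy3 hy hd.1 hd.2 h45)).2.2.1 u (hE hu) v (hE hv) hne
  have hsub : E ⊆ {u, v} ∪ {z | z ∈ nbr D y d ∧ (z ∈ perp D u ∧ z ∈ perp D v)} := fun x hx => by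
    by_cases h : x = u ∨ x = v
    · exact Or.inl (by simpa using h)
    · rw [not_or] at h
      exact Or.inr ⟨hE hx, ⟨(hE hx).1.1, h.1, hc u hu x hx⟩, (hE hx).1.1, h.2, hc v hv x hx⟩
  have := (Set.ncard_le_ncard hsub (Set.toFinite _)).trans (Set.ncard_union_le _ _)
  rw [h3, Set.ncard_pair hne] at this
  exact this

theorem clique_le {y : G} {m : ℕ}
    (hm : ∀ e ∈ fixd D y, ∀ E ⊆ nbr D y e, (∀ a ∈ E, ∀ b ∈ E, Commute a b) → E.ncard ≤ m) :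
    ∀ E ⊆ fixd D y, (∀ a ∈ E, ∀ b ∈ E, Commute a b) → E.ncard ≤ m + 1 := by
  intro E hE hc
  rcases E.eq_empty_or_nonempty with rfl | ⟨e, he⟩
  · simp
  have h := hm e (hE he) (E \ {e}) (fun x hx => ⟨⟨(hE hx.1).1, hx.2, hc e he x hx.1⟩, (hE hx.1).2⟩)
    fun a ha b hb => hc a ha.1 b hb.1
  rw [Set.ncard_sdiff_singleton_of_mem he] at h
  omega

include S in
theorem width_four {y d : G} (hy3 : y ^ 3 = 1) (hy : y ≠ 1) (hd : d ∈ fixd D y)
    (h45 : (nbr D y d).ncard = 45) : Cfsg.commutingWidth (fixd D y) = 6 := by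
  refine width_eq (clique_le fun e he E hE hc =>
    four_clique S hy3 hy he ((nbr_same S hy3 hy he hd).trans h45) hE hc) ?_
  obtain ⟨u, hu⟩ := Set.nonempty_of_ncard_ne_zero (s := nbr D y d) (by omega)
  obtain ⟨v, hv, hvu⟩ := Set.nonempty_of_ncard_ne_zero (s := {v | v ∈ nbr D y d ∧ v ∈ perp D u})
    (by rw [(quad_facts S hd.1 (typeFour_of S hy3 hy hd.1 hd.2 h45)).2.1 u hu]; norm_num)
  have h : Tri D d u v := ⟨hd.1, hu.1.1, hv.1.1, Ne.symm hu.1.2.1, Ne.symm hv.1.2.1, Ne.symm hvu.2.1,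
    hu.1.2.2, hv.1.2.2, hvu.2.2⟩
  exact ⟨six D d u v, fun x hx => ⟨hx.1.1, six_fixed S hy3 hy h hd.2 h45 hu.2 hv.2 x hx⟩,
    fun a ha b hb => ha.2 b hb.1, ncard_six S h⟩

include S in
theorem parts_le {y d : G} (hy3 : y ^ 3 = 1) (hy : y ≠ 1) (hd : d ∈ fixd D y) {k q : ℕ}
    (hk : (nbr D y d).ncard = k) (hkq : k = 18 ∧ q = 9 ∨ k = 9 ∧ q = 3) :
    ∀ E ⊆ fixd D y, (∀ a ∈ E, ∀ b ∈ E, Commute a b) → E.ncard ≤ k / q + 1 := by
  refine clique_le fun e he E hE hc => ?_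
  have hn := (nbr_same S hy3 hy he hd).trans hk
  have ht : TypeParts D y e k q := by
    rcases hkq with ⟨rfl, rfl⟩ | ⟨rfl, rfl⟩
    exacts [(typeParts_of S hy3 hy he.1 he.2).1 hn, (typeParts_of S hy3 hy he.1 he.2).2 hn]
  have := parts_clique ht hE hc
  rcases hkq with ⟨rfl, rfl⟩ | ⟨rfl, rfl⟩ <;> omega

include S in
theorem width_eighteen {y d : G} (hy3 : y ^ 3 = 1) (hy : y ≠ 1) (hd : d ∈ fixd D y)
    (h18 : (nbr D y d).ncard = 18) : Cfsg.commutingWidth (fixd D y) = 3 := by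
  refine width_eq (parts_le S hy3 hy hd h18 (Or.inl ⟨rfl, rfl⟩)) ?_
  obtain ⟨u, hu⟩ := Set.nonempty_of_ncard_ne_zero (s := nbr D y d) (by omega)
  have h1 := ((typeParts_of S hy3 hy hd.1 hd.2).1 h18).2.1 u hu
  obtain ⟨v, hv, hvu⟩ := Set.nonempty_of_ncard_ne_zero (s := {v | v ∈ nbr D y d ∧ v ∈ perp D u}) (by omega)
  refine ⟨{d, u, v}, ?_, ?_, Set.ncard_eq_three.mpr
    ⟨d, u, v, Ne.symm hu.1.2.1, Ne.symm hv.1.2.1, Ne.symm hvu.2.1, rfl⟩⟩
  · rintro x (rfl | rfl | rfl)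
    exacts [hd, ⟨hu.1.1, hu.2⟩, ⟨hv.1.1, hv.2⟩]
  · rintro a (rfl | rfl | rfl) b (rfl | rfl | rfl)
    exacts [Commute.refl _, hu.1.2.2, hv.1.2.2, hu.1.2.2.symm, Commute.refl _, hvu.2.2, hv.1.2.2.symm,
      hvu.2.2.symm, Commute.refl _]

include S in
theorem width_nine {y d : G} (hy3 : y ^ 3 = 1) (hy : y ≠ 1) (hd : d ∈ fixd D y)
    (h9 : (nbr D y d).ncard = 9) : Cfsg.commutingWidth (fixd D y) = 4 := by
  refine width_eq (parts_le S hy3 hy hd h9 (Or.inr ⟨rfl, rfl⟩)) ?_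
  obtain ⟨-, h2, -⟩ := (typeParts_of S hy3 hy hd.1 hd.2).2 h9
  obtain ⟨u, hu⟩ := Set.nonempty_of_ncard_ne_zero (s := nbr D y d) (by omega)
  obtain ⟨v, hv, hvu⟩ := Set.nonempty_of_ncard_ne_zero (s := {v | v ∈ nbr D y d ∧ v ∈ perp D u})
    (by have := h2 u hu; omega)
  obtain ⟨w, hw, hwu, hwv⟩ : ∃ w, w ∈ nbr D y d ∧ w ∈ perp D u ∧ w ∈ perp D v := by
    by_contra hcon
    have hsub : {z | z ∈ nbr D y d ∧ z ∈ perp D u} ⊆ nbr D y d \ {z | z ∈ nbr D y d ∧ z ∈ perp D v} :=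
      fun z hz => ⟨hz.1, fun hh => hcon ⟨z, hz.1, hz.2, hh.2⟩⟩
    have a := Set.ncard_le_ncard hsub (Set.toFinite _)
    have b := Set.ncard_sdiff_add_ncard_of_subset (s := {z | z ∈ nbr D y d ∧ z ∈ perp D v})
      (t := nbr D y d) (fun z hz => hz.1) (Set.toFinite _)
    have := h2 u hu
    have := h2 v hv
    omega
  refine ⟨{d, u, v, w}, ?_, ?_, ?_⟩
  · rintro x (rfl | rfl | rfl | rfl)
    exacts [hd, ⟨hu.1.1, hu.2⟩, ⟨hv.1.1, hv.2⟩, ⟨hw.1.1, hw.2⟩]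
  · rintro a (rfl | rfl | rfl | rfl) b (rfl | rfl | rfl | rfl)
    exacts [Commute.refl _, hu.1.2.2, hv.1.2.2, hw.1.2.2, hu.1.2.2.symm, Commute.refl _, hvu.2.2, hwu.2.2,
      hv.1.2.2.symm, hvu.2.2.symm, Commute.refl _, hwv.2.2, hw.1.2.2.symm, hwu.2.2.symm, hwv.2.2.symm,
      Commute.refl _]
  · rw [Set.ncard_insert_of_notMem, Set.ncard_eq_three.mpr
      ⟨u, v, w, Ne.symm hvu.2.1, Ne.symm hwu.2.1, Ne.symm hwv.2.1, rfl⟩]
    simp [Ne.symm hu.1.2.1, Ne.symm hv.1.2.1, Ne.symm hw.1.2.1]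

end Cfsg.Agent.Lib.FischerMTypes.Threes
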