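import Mathlib
import Cfsg.Agent.Lib.FischerMTypes.Threes.Width
import Cfsg.Agent.Lib.FischerMTypes.Threes.Burnside

/-!
Type M(22): elements of order three fixing or cycling a commuting triple, on the 48 transpositions
commuting with it outside its six.
-/

set_option autoImplicit false
set_option linter.style.haveILetI false
set_option linter.unusedSectionVars false

namespace Cfsg.Agent.Lib.FischerMTypes.Threes

open Cfsg.Agent.Lib.FischerMTypes.Basic Cfsg.Agent.Lib.FischerMTypes.Primitive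
  Cfsg.Agent.Lib.FischerMTypes.PointModel Cfsg.Agent.Lib.FischerMTypes.Aut22
  Cfsg.Agent.Lib.FischerMTypes.StabilizerM22 Cfsg.Agent.Lib.FischerMTypes.Thirteen
open Cfsg.Agent.Lib.FischerMTypes.TraceCounts (Sys)
open Cfsg.Agent.Lib.Unitary Cfsg.Agent.Lib.UnitaryFour.Transvection

variable {G : Type*} [Group G] [Finite G] {D : Set G}
variable {F : Type} [Field F] [Fintype F]

local notation "h⟪" u ", " v "⟫" => Cfsg.hermForm 6 F 2 u v

/-- the common set of a triple outside its six -/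
abbrev rest (D : Set G) (a b c : G) : Set G := cl3 D a b c \ six D a b c

/-- the part of a clique outside the six -/
abbrev piece (D : Set G) (a b c e : G) : Set G := block D a b c e \ six D a b c

variable (S : Sys D F)

include S in
theorem ncard_rest {a b c : G} (h : Tri D a b c) : (rest D a b c).ncard = 48 := by
  have := Set.ncard_sdiff_add_ncard_of_subset (s := six D a b c) (t := cl3 D a b c) (fun x hx => hx.1) (Set.toFinite _)
  rw [ncard_six S h, ncard_cl3 S h] at this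
  show (cl3 D a b c \ six D a b c).ncard = 48
  omega

theorem triple_ncard {a b c : G} (h : Tri D a b c) : ({a, b, c} : Set G).ncard = 3 :=
  Set.ncard_eq_three.mpr ⟨a, b, c, h.nab, h.nac, h.nbc, rfl⟩

include S in
/-- elements fixing the triple and moving the others of the six -/
theorem axis {u a b c : G} (h : Tri D a b c) (u3 : u ^ 3 = 1) (u1 : u ≠ 1) (ua : Commute u a) (ub : Commute u b)
    (uc : Commute u c) (hmove : ∀ x ∈ six D a b c, Commute u x → x = a ∨ x = b ∨ x = c) :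
    ((nbr D u a).ncard = 18 ∧ (pts (rest D a b c) u).ncard = 0) ∨
      ((nbr D u a).ncard = 9 ∧ (pts (rest D a b c) u).ncard = 3) := by
  classical
  have hb : b ∈ nbr D u a := ⟨h.perp_b, ub⟩
  have hc : c ∈ nbr D u a := ⟨h.perp_c, uc⟩
  rcases ncard_nbr_cases S u3 u1 h.ma ua with h45 | h18 | h9
  · exfalso
    have hall := six_fixed S u3 u1 h ua h45 ub uc
    have hsub : six D a b c ⊆ {a, b, c} := fun x hx => by simpa using hmove x hx (hall x hx)
    have := Set.ncard_le_ncard hsub (Set.toFinite _)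
    rw [ncard_six S h, triple_ncard h] at this
    omega
  · refine Or.inl ⟨h18, ?_⟩
    rw [Set.ncard_eq_zero, Set.eq_empty_iff_forall_notMem]
    rintro e ⟨⟨he, he'⟩, hue⟩
    have hea : e ≠ a := fun e' => he' (e' ▸ h.mem_six (Or.inl rfl))
    have heb : e ≠ b := fun e' => he' (e' ▸ h.mem_six (Or.inr (Or.inl rfl)))
    have hec : e ≠ c := fun e' => he' (e' ▸ h.mem_six (Or.inr (Or.inr rfl)))
    have := parts_clique ((typeParts_of S u3 u1 h.ma ua).1 h18) (E := {b, c, e}) (by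
      rintro x (rfl | rfl | rfl)
      exacts [hb, hc, ⟨⟨he.1, hea, he.2.1⟩, hue⟩]) (by
      rintro x (rfl | rfl | rfl) y (rfl | rfl | rfl)
      exacts [Commute.refl _, h.cbc, he.2.2.1, h.cbc.symm, Commute.refl _, he.2.2.2, he.2.2.1.symm,
        he.2.2.2.symm, Commute.refl _])
    rw [Set.ncard_eq_three.mpr ⟨b, c, e, h.nbc, Ne.symm heb, Ne.symm hec, rfl⟩] at this
    omega
  · refine Or.inr ⟨h9, ?_⟩
    obtain ⟨hk, hl, htr⟩ := (typeParts_of S u3 u1 h.ma ua).2 h9
    set N := nbr D u a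
    have hset : pts (rest D a b c) u = {x | x ∈ N ∧ x ∈ perp D b} ∩ {x | x ∈ N ∧ x ∈ perp D c} := by
      ext x
      constructor
      · rintro ⟨⟨hx, hx'⟩, hux⟩
        have hxN : x ∈ N := ⟨⟨hx.1, fun e => hx' (e ▸ h.mem_six (Or.inl rfl)), hx.2.1⟩, hux⟩
        exact ⟨⟨hxN, hx.1, fun e => hx' (e ▸ h.mem_six (Or.inr (Or.inl rfl))), hx.2.2.1⟩,
          hxN, hx.1, fun e => hx' (e ▸ h.mem_six (Or.inr (Or.inr rfl))), hx.2.2.2⟩
      · rintro ⟨⟨hx, hxb⟩, -, hxc⟩
        refine ⟨⟨⟨hx.1.1, hx.1.2.2, hxb.2.2, hxc.2.2⟩, fun hs => ?_⟩, hx.2⟩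
        rcases hmove x hs hx.2 with e | e | e
        exacts [hx.1.2.1 e, hxb.2.1 e, hxc.2.1 e]
    set A := {x | x ∈ N ∧ x ∈ perp D b}
    set B := {x | x ∈ N ∧ x ∈ perp D c}
    have hcover : N ⊆ A ∪ B := fun x hx => by
      by_contra hn
      rw [Set.mem_union, not_or] at hn
      have h1 : x ∉ perp D b := fun hh => hn.1 ⟨hx, hh⟩
      have h2 : x ∉ perp D c := fun hh => hn.2 ⟨hx, hh⟩
      exact htr b hb x hx c hc h1 (fun hh => h2 ⟨hx.1.1, Ne.symm hh.2.1, hh.2.2.symm⟩)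
        ⟨h.mc, Ne.symm h.nbc, h.cbc⟩
    have hu := Set.eq_of_subset_of_ncard_le (show A ∪ B ⊆ N from fun x hx => hx.elim And.left And.left)
      (Set.ncard_le_ncard hcover (Set.toFinite _)) (Set.toFinite _)
    have := Set.ncard_union_add_ncard_inter A B (Set.toFinite _) (Set.toFinite _)
    have hA : A.ncard + 3 = 9 := hl b hb
    have hB : B.ncard + 3 = 9 := hl c hc
    rw [hu, show N.ncard = 9 from hk] at this
    rw [hset]
    omega

include S in
theorem block_same {a b c e e' : G} (h : Tri D a b c) (he : e ∈ rest D a b c) (he' : e' ∈ piece D a b c e) :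
    block D a b c e' = block D a b c e := by
  obtain ⟨hcard, hcl⟩ := block_spec S h he.1 he.2
  refine (Set.eq_of_subset_of_ncard_le (s := block D a b c e) (t := block D a b c e') (fun y hy => ⟨hy.1, hcl e' he'.1 y hy⟩) ?_ (Set.toFinite _)).symm
  rw [hcard, (block_spec S h he'.1.1 he'.2).1]

include S in
theorem ncard_piece {a b c e : G} (h : Tri D a b c) (he : e ∈ rest D a b c) : (piece D a b c e).ncard = 16 := by
  have := Set.ncard_sdiff_add_ncard_of_subset (s := six D a b c) (t := block D a b c e)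
    (fun x hx => ⟨hx.1, (hx.2 e he.1).symm⟩) (Set.toFinite _)
  rw [(block_spec S h he.1 he.2).1, ncard_six S h] at this
  show (block D a b c e \ six D a b c).ncard = 16
  omega

include S in
/-- a free element of order three fixing the six permutes three pieces -/
theorem three_pieces {a b c z w e : G} (h : Tri D a b c) (hz : orderOf z = 3)
    (hz6 : ∀ x ∈ six D a b c, Commute z x) (hzfree : ∀ x ∈ rest D a b c, ¬ Commute z x)
    (hzw : Commute z w) (he : e ∈ rest D a b c) :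
    (pts (rest D a b c) w).ncard = 3 * (pts (piece D a b c e) w).ncard := by
  classical
  have z3 : z ^ 3 = 1 := hz ▸ pow_orderOf_eq_one z
  set U := rest D a b c
  set B := piece D a b c e
  set f : G → G := fun x => z * x * z⁻¹
  have hf : Function.Injective f := fun x y h => by simpa [f] using h
  have hfa : ∀ {x}, x = a ∨ x = b ∨ x = c → z * x * z⁻¹ = x := fun hx =>
    mul_inv_eq_iff_eq_mul.mpr (hz6 _ (h.mem_six hx))
  have hfcl : ∀ {x}, x ∈ cl3 D a b c → f x ∈ cl3 D a b c := fun {x} hx => by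
    refine ⟨S.hD.2.1 z x hx.1, ?_, ?_, ?_⟩
    · rw [← hfa (x := a) (Or.inl rfl)]; exact (commute_conj_iff z _ _).mpr hx.2.1
    · rw [← hfa (x := b) (Or.inr (Or.inl rfl))]; exact (commute_conj_iff z _ _).mpr hx.2.2.1
    · rw [← hfa (x := c) (Or.inr (Or.inr rfl))]; exact (commute_conj_iff z _ _).mpr hx.2.2.2
  have hfU : ∀ {x}, x ∈ U → f x ∈ U := fun {x} hx => ⟨hfcl hx.1, fun hs => by
    have hz' : z * f x * z⁻¹ = f x := mul_inv_eq_iff_eq_mul.mpr (hz6 _ hs)
    exact hx.2 (hf hz' ▸ hs)⟩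
  have hf3 : ∀ x, f (f (f x)) = x := fun x => by
    show z * (z * (z * x * z⁻¹) * z⁻¹) * z⁻¹ = x
    calc z * (z * (z * x * z⁻¹) * z⁻¹) * z⁻¹ = z ^ 3 * x * (z ^ 3)⁻¹ := by simp only [pow_succ, pow_zero, one_mul]; group
      _ = x := by rw [z3]; simp
  have hBU : B ⊆ U := fun x hx => ⟨hx.1.1, hx.2⟩
  have hmap : ∀ {p x}, p ∈ U → x ∈ piece D a b c p → f x ∈ piece D a b c (f p) := fun {p x} hp hx =>
    ⟨⟨hfcl hx.1.1, (commute_conj_iff z p x).mpr hx.1.2⟩, (hfU ⟨hx.1.1, hx.2⟩).2⟩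
  have hnot : f e ∉ B := fun hin => by
    have heq := block_same S h he hin
    have hst : ∀ x ∈ B, z * x * z⁻¹ ∈ B := fun x hx => by
      have hm := hmap he hx
      rw [piece, heq] at hm
      exact hm
    have h3 := burnside_three hz hst
    rw [show B.ncard = 16 from ncard_piece S h he, show (pts B z).ncard = 0 from (Set.ncard_eq_zero
      (Set.toFinite _)).mpr (Set.eq_empty_iff_forall_notMem.mpr fun x hx => hzfree x (hBU hx.1) hx.2)] at h3
    omega
  have hd1 : Disjoint B (f '' B) := Set.disjoint_left.mpr fun x hx ⟨y, hy, hyx⟩ => hnot (by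
    subst hyx
    have e1 := block_same S h he hx
    have e2 := block_same S h (hfU he) (hmap he hy)
    have : f e ∈ block D a b c (f e) := ⟨(hfU he).1, Commute.refl _⟩
    rw [← e2, e1] at this
    exact ⟨this, (hfU he).2⟩)
  have hd2 : Disjoint (f '' B) (f '' (f '' B)) := Set.disjoint_image_of_injective hf hd1
  have hd3 : Disjoint B (f '' (f '' B)) := by
    have h3 := Set.disjoint_image_of_injective hf hd2
    rw [show f '' (f '' (f '' B)) = B by simp only [Set.image_image, hf3, Set.image_id']] at h3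
    exact h3.symm
  have hc : ∀ s : Set G, (f '' s).ncard = s.ncard := fun s => Set.ncard_image_of_injective s hf
  have hU : B ∪ f '' B ∪ f '' (f '' B) = U := by
    refine Set.eq_of_subset_of_ncard_le ?_ ?_ (Set.toFinite _)
    · rintro x ((hx | ⟨y, hy, rfl⟩) | ⟨_, ⟨y, hy, rfl⟩, rfl⟩)
      exacts [hBU hx, hfU (hBU hy), hfU (hfU (hBU hy))]
    · rw [Set.ncard_union_eq (hd3.union_left hd2) (Set.toFinite _) (Set.toFinite _),
        Set.ncard_union_eq hd1 (Set.toFinite _) (Set.toFinite _), hc, hc, hc,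
        show U.ncard = 48 from ncard_rest S h, show B.ncard = 16 from ncard_piece S h he]
  have hcomm : ∀ {x}, Commute w (f x) ↔ Commute w x := fun {x} => by
    have hw : z * w * z⁻¹ = w := mul_inv_eq_iff_eq_mul.mpr hzw.eq
    conv_lhs => rw [← hw]
    exact commute_conj_iff z w x
  have hp : ∀ {s : Set G}, pts (f '' s) w = f '' pts s w := fun {s} => Set.ext fun x => by
    constructor
    · rintro ⟨⟨y, hy, rfl⟩, hwx⟩
      exact ⟨y, ⟨hy, hcomm.mp hwx⟩, rfl⟩
    · rintro ⟨y, ⟨hy, hwy⟩, rfl⟩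
      exact ⟨⟨y, hy, rfl⟩, hcomm.mpr hwy⟩
  have hsplit : pts U w = pts B w ∪ pts (f '' B) w ∪ pts (f '' (f '' B)) w := by
    rw [← hU]
    ext x
    simp only [pts, Set.mem_ofPred_eq, Set.mem_union]
    tauto
  rw [hsplit, Set.ncard_union_eq (Disjoint.mono (Set.union_subset_union (fun x hx => hx.1) fun x hx => hx.1)
      (fun x hx => hx.1) (hd3.union_left hd2)) (Set.toFinite _) (Set.toFinite _),
    Set.ncard_union_eq (Disjoint.mono (fun x hx => hx.1) (fun x hx => hx.1) hd1) (Set.toFinite _) (Set.toFinite _),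
    hp, hc, hp, hc, hp, hc]
  omega

include S in
/-- elements cycling the triple and fixing a further transposition -/
theorem diag {w a b c e : G} (h : Tri D a b c) (w3 : w ^ 3 = 1) (wa : w * a * w⁻¹ = b) (wb : w * b * w⁻¹ = c)
    (hmove : ∀ x ∈ six D a b c, ¬ Commute w x) (he : e ∈ rest D a b c) (we : Commute w e) :
    (nbr D w e).ncard = 9 ∧ (pts (piece D a b c e) w).ncard = 4 := by
  classical
  have w1 : w ≠ 1 := fun hh => hmove a (h.mem_six (Or.inl rfl)) (hh ▸ Commute.one_left a)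
  obtain ⟨he1, he2⟩ := he
  set C := S.ctx e he1.1
  obtain ⟨g, g3, hl⟩ := exists_lift S w3 he1.1 we
  have ma : a ∈ perp D e := ⟨h.ma, fun hh => he2 (hh ▸ h.mem_six (Or.inl rfl)), he1.2.1.symm⟩
  obtain ⟨u1, hu1, hu10, ha⟩ := C.exists_pt ma
  set u2 := act g u1
  set u3 := act g u2
  have hu2 : h⟪u2, u2⟫ = 0 := by rw [act_herm]; exact hu1
  have hu20 : u2 ≠ 0 := act_ne_zero hu10
  have hu3 : h⟪u3, u3⟫ = 0 := by rw [act_herm]; exact hu2
  have hu30 : u3 ≠ 0 := act_ne_zero hu20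
  have hb : C.pt u2 = b := by rw [← wa, ← ha, hl.conj_pt hu1 hu10]
  have hc : C.pt u3 = c := by rw [← wb, ← hb, hl.conj_pt hu2 hu20]
  have hcyc : act g u3 = u1 := by rw [← act_mul, ← act_mul, ← pow_two, ← pow_succ, g3, act_one]
  have o12 : h⟪u1, u2⟫ = 0 := (C.pt_comm hu1 hu10 hu2 hu20).mp (by rw [ha, hb]; exact h.cab)
  have o13 : h⟪u1, u3⟫ = 0 := (C.pt_comm hu1 hu10 hu3 hu30).mp (by rw [ha, hc]; exact h.cac)
  have o23 : h⟪u2, u3⟫ = 0 := (C.pt_comm hu2 hu20 hu3 hu30).mp (by rw [hb, hc]; exact h.cbc)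
  have o21 := herm_eq_zero_symm C.hF o12
  have o31 := herm_eq_zero_symm C.hF o13
  have o32 := herm_eq_zero_symm C.hF o23
  have hnp : ∀ r : F, u2 ≠ r • u1 := fun r hr => h.nab (by
    rw [← ha, ← hb]
    exact (C.pt_eq hu1 hu10 hu2 hu20).mpr ⟨r, fun h0 => hu20 (by rw [hr, h0, zero_smul]), hr⟩)
  have hli : ∀ p q r : F, p • u1 + q • u2 + r • u3 = 0 → p = 0 ∧ q = 0 ∧ r = 0 := by
    intro p q r hs
    by_cases hr : r = 0
    · rw [hr, zero_smul, add_zero] at hs
      by_cases hq : q = 0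
      · rw [hq, zero_smul, add_zero] at hs
        exact ⟨(smul_eq_zero.mp hs).resolve_right hu10, hq, hr⟩
      · exact absurd (show u2 = (-q⁻¹ * p) • u1 by
          linear_combination (norm := (match_scalars <;> field_simp <;> ring)) q⁻¹ • hs) (hnp _)
    · exfalso
      have he3 : u3 = (-r⁻¹ * p) • u1 + (-r⁻¹ * q) • u2 := by
        linear_combination (norm := (match_scalars <;> field_simp <;> ring)) r⁻¹ • hs
      have hT : Tri D e a b := ⟨he1.1, h.ma, h.mb, Ne.symm ma.2.1,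
        fun hh => he2 (hh ▸ h.mem_six (Or.inr (Or.inl rfl))), h.nab, ma.2.2, he1.2.2.1.symm, h.cab⟩
      have hcs : c ∈ six D e a b := by
        refine ⟨⟨h.mc, he1.2.2.2.symm, h.cac, h.cbc⟩, fun y hy => ?_⟩
        by_cases hye : y = e
        · rw [hye]; exact he1.2.2.2
        obtain ⟨q', hq', hq0', rfl⟩ := C.exists_pt (y := y) ⟨hy.1, hye, hy.2.1⟩
        have p1 := (C.pt_comm hu1 hu10 hq' hq0').mp (by rw [ha]; exact hy.2.2.1)
        have p2 := (C.pt_comm hu2 hu20 hq' hq0').mp (by rw [hb]; exact hy.2.2.2)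
        rw [← hc]
        refine (C.pt_comm hu3 hu30 hq' hq0').mpr ?_
        rw [he3, herm_add_left, herm_smul_left, herm_smul_left, p1, p2, mul_zero, mul_zero, add_zero]
      have heq := six_eq S hT (hT.mem_six (Or.inr (Or.inl rfl))) (hT.mem_six (Or.inr (Or.inr rfl))) hcs
        h.nab h.nac h.nbc
      exact he2 (heq ▸ hT.mem_six (Or.inl rfl))
  obtain ⟨cs, dm, bs, E⟩ := exists_decomp C.hF g3
  set x : Fin 3 → (Fin 6 → F) := fun i => u1 + cs i ^ 2 • u2 + cs i • u3
  have hx : ∀ i, h⟪x i, x i⟫ = 0 := fun i => by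
    simp [x, herm_add_left, herm_add_right _ _ _ C.hF, herm_smul_left, herm_smul_right, hu1, hu2, hu3, o12, o13,
      o23, o21, o31, o32]
  have hx0 : ∀ i, x i ≠ 0 := fun i hh => one_ne_zero (hli 1 (cs i ^ 2) (cs i) (by rw [one_smul]; exact hh)).1
  have hxe : ∀ i, act g (x i) = cs i • x i := fun i => by
    simp only [x, act_add, act_smul, hcyc, smul_add, smul_smul]
    rw [show cs i * cs i ^ 2 = 1 by rw [← pow_succ', E.cs_cube], one_smul, ← pow_two]
    show u2 + cs i ^ 2 • u3 + cs i • u1 = _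
    abel
  have hdim : ∀ i, 2 ≤ dm i := fun i => by
    obtain ⟨c0, c1, -, -⟩ := countNull_small (F := F) C.hF
    have hn := E.ncard_null C.hF i
    have h2 : 1 < {v | act g v = cs i • v ∧ h⟪v, v⟫ = 0}.ncard :=
      (Set.one_lt_ncard_iff (Set.toFinite _)).mpr
        ⟨0, x i, ⟨by simp [act_def], herm_zero_left _⟩, ⟨hxe i, hx i⟩, (hx0 i).symm⟩
    by_contra hlt
    rcases (show dm i = 0 ∨ dm i = 1 by omega) with hd | hd <;> rw [hn, hd] at h2 <;> omega
  have hshape := shape_of_count S w3 w1 he1.1 hl E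
  have hsum := E.sum_dim
  obtain ⟨h9, hdm⟩ : (nbr D w e).ncard = 9 ∧ ∀ i, dm i = 2 := by
    have := hdim 0; have := hdim 1; have := hdim 2
    rcases hshape with hh | hh | hh
    · rcases hh.2 0 with a' | a' <;> rcases hh.2 1 with b' | b' <;> rcases hh.2 2 with c' | c' <;> omega
    · rcases hh.2 0 with a' | a' <;> rcases hh.2 1 with b' | b' <;> rcases hh.2 2 with c' | c' <;> omega
    · exact hh
  refine ⟨h9, ?_⟩
  have hox : ∀ i {v}, h⟪v, u1⟫ = 0 → h⟪v, u2⟫ = 0 → h⟪v, u3⟫ = 0 → h⟪v, x i⟫ = 0 := fun i {v} a' b' c' => by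
    simp [x, herm_add_right _ _ _ C.hF, herm_smul_right, a', b', c']
  have hxu : ∀ i, h⟪x i, u1⟫ = 0 ∧ h⟪x i, u2⟫ = 0 ∧ h⟪x i, u3⟫ = 0 := fun i => by
    simp [x, herm_add_left, herm_smul_left, hu1, hu2, hu3, o12, o13, o23, o21, o31, o32]
  have hset : pts (piece D a b c e) w = insert e (Set.range fun i => C.pt (x i)) := by
    ext y
    constructor
    · rintro ⟨⟨hy, hy6⟩, hwy⟩
      by_cases hye : y = e
      · exact Or.inl hye
      refine Or.inr ?_
      obtain ⟨v, hv, hv0, rfl⟩ := C.exists_pt (y := y) ⟨hy.1.1, hye, hy.2⟩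
      obtain ⟨k, hk, hkv⟩ := (hl.commute_pt hv hv0).mp hwy
      obtain ⟨i, rfl⟩ := E.exists_index C.hF hk
      have q1 := herm_eq_zero_symm C.hF ((C.pt_comm hu1 hu10 hv hv0).mp (by rw [ha]; exact hy.1.2.1))
      have q2 := herm_eq_zero_symm C.hF ((C.pt_comm hu2 hu20 hv hv0).mp (by rw [hb]; exact hy.1.2.2.1))
      have q3 := herm_eq_zero_symm C.hF ((C.pt_comm hu3 hu30 hv hv0).mp (by rw [hc]; exact hy.1.2.2.2))
      obtain ⟨r, hr⟩ := E.parallel C.hF (le_of_eq_of_le (hdm i) (by norm_num)) (hxe i) hkv (hx0 i) (hx i) hv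
        (herm_eq_zero_symm C.hF (hox i q1 q2 q3))
      exact ⟨i, (C.pt_eq (hx i) (hx0 i) hv hv0).mpr ⟨r, fun h0 => hv0 (by rw [hr, h0, zero_smul]), hr⟩⟩
    · rintro (rfl | ⟨i, rfl⟩)
      · exact ⟨⟨⟨he1, Commute.refl _⟩, he2⟩, we⟩
      · have m := C.pt_mem (hx i) (hx0 i)
        obtain ⟨p1, p2, p3⟩ := hxu i
        have hcs : cs i ≠ 0 := fun hh => by simpa [hh] using E.cs_cube i
        have hwx : Commute w (C.pt (x i)) := (hl.commute_pt (hx i) (hx0 i)).mpr ⟨cs i, hcs, hxe i⟩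
        refine ⟨⟨⟨⟨m.1, ?_, ?_, ?_⟩, m.2.2⟩, fun hs => hmove _ hs hwx⟩, hwx⟩
        · rw [← ha]; exact ((C.pt_comm (hx i) (hx0 i) hu1 hu10).mpr p1).symm
        · rw [← hb]; exact ((C.pt_comm (hx i) (hx0 i) hu2 hu20).mpr p2).symm
        · rw [← hc]; exact ((C.pt_comm (hx i) (hx0 i) hu3 hu30).mpr p3).symm
  have hinj : Function.Injective fun i => C.pt (x i) := fun i j hij => by
    obtain ⟨r, hr, hr'⟩ := (C.pt_eq (hx i) (hx0 i) (hx j) (hx0 j)).mp hij
    refine E.cs_inj (smul_left_injective F (hx0 j) ?_)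
    show cs i • x j = cs j • x j
    rw [← hxe j, hr', act_smul, hxe, smul_comm]
  rw [hset, Set.ncard_insert_of_notMem ?_ (Set.toFinite _), Set.ncard_range_of_injective hinj,
    Nat.card_eq_fintype_card, Fintype.card_fin]
  rintro ⟨i, hi⟩
  exact (C.pt_mem (hx i) (hx0 i)).2.1 hi

end Cfsg.Agent.Lib.FischerMTypes.Threes
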