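import Mathlib
import Cfsg.Agent.Lib.FischerMTypes.TripleCentralizer
import Cfsg.Agent.Lib.FischerMTypes.Threes.Six
import Cfsg.Agent.Lib.FischerMTypes.Threes.Axis

/-!
Type M(22): the Sylow three-subgroup of the centraliser of a product of three commuting transpositions
is elementary abelian of order 27, with coordinates from its action on the six.
-/

set_option autoImplicit false
set_option linter.style.haveILetI false
set_option linter.unusedSectionVars false

namespace Cfsg.Agent.Lib.FischerMTypes.Threes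

open Cfsg.Agent.Lib.FischerMTypes.Basic Cfsg.Agent.Lib.FischerMTypes.Primitive
  Cfsg.Agent.Lib.FischerMTypes.Aut22 Cfsg.Agent.Lib.FischerMTypes.Thirteen
open Cfsg.Agent.Lib.FischerMTypes.TraceCounts (Sys)

/-- the cycle on the first three -/
def cA : Equiv.Perm (Fin 6) := Equiv.swap 0 1 * Equiv.swap 1 2

/-- the cycle on the last three -/
def cB : Equiv.Perm (Fin 6) := Equiv.swap 3 4 * Equiv.swap 4 5

/-- the nine products -/
def cyc (i j : Fin 3) : Equiv.Perm (Fin 6) := cB ^ (i : ℕ) * cA ^ (j : ℕ)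

/-- the exchange of the two triples -/
def flip6 : Equiv.Perm (Fin 6) :=
  (Equiv.swap 0 3 * Equiv.swap 3 1) * (Equiv.swap 3 1 * Equiv.swap 1 5) * (Equiv.swap 2 1 * Equiv.swap 1 4)

/-- a permutation respecting the two triples -/
def Halves (π : Equiv.Perm (Fin 6)) : Prop :=
  (∀ x : Fin 6, x < 3 → π x < 3) ∨ (∀ x : Fin 6, x < 3 → ¬ π x < 3)

instance (π : Equiv.Perm (Fin 6)) : Decidable (Halves π) := by unfold Halves; infer_instance

theorem cyc_add : ∀ i j k l : Fin 3, cyc i j * cyc k l = cyc (i + k) (j + l) := by decide +kernel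

theorem cyc_inv : ∀ i j : Fin 3, (cyc i j)⁻¹ = cyc (-i) (-j) := by decide +kernel

theorem cyc_zero : cyc 0 0 = 1 := by decide +kernel

theorem cyc_inj : ∀ i j k l : Fin 3, cyc i j = cyc k l → i = k ∧ j = l := by decide +kernel

theorem flip_cyc : ∀ i j : Fin 3, flip6 * cyc i j * flip6⁻¹ = cyc j (-i) := by decide +kernel

theorem cyc_fix : ∀ i j : Fin 3, ∀ x : Fin 6,
    cyc i j x = x ↔ (x < 3 ∧ j = 0) ∨ (¬ x < 3 ∧ i = 0) := by decide +kernel

theorem cyc_one : ∀ i : Fin 3, cyc i 1 0 = 1 ∧ cyc i 1 1 = 2 := by decide +kernel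

set_option maxRecDepth 100000 in
theorem three_halves : ∀ π : Equiv.Perm (Fin 6), Halves π → π ^ 27 = 1 → ∃ i j, π = cyc i j := by
  decide +kernel

theorem lt_three : ∀ y : Fin 6, y < 3 ↔ y = 0 ∨ y = 1 ∨ y = 2 := by decide

theorem flip_values : flip6 0 = 3 ∧ flip6 1 = 4 ∧ flip6 2 = 5 := by decide +kernel

variable {G : Type*} [Group G] [Finite G] {D : Set G}
variable {F : Type} [Field F] [Fintype F]

/-- the product of the first three -/
abbrev tp (v : Fin 6 → G) : G := v 0 * (v 1 * v 2)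

/-- the 48 around the six -/
abbrev far (D : Set G) (v : Fin 6 → G) : Set G := rest D (v 0) (v 1) (v 2)

/-- conjugating a triple into an element of order three -/
theorem conj_into {p : ℕ} [Fact p.Prime] {M P R : Subgroup G} (hP : P ≤ M)
    (hcard : Nat.card P = p ^ (Nat.card M).factorization p) (hR : R ≤ M) (hRp : IsPGroup p R) :
    ∃ m ∈ M, ∀ r ∈ R, m * r * m⁻¹ ∈ P := by
  let PS : Sylow p M := Sylow.ofCard (P.subgroupOf M)
    (by rw [Nat.card_congr (Subgroup.subgroupOfEquivOfLe hP).toEquiv, hcard])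
  obtain ⟨Q, hQ⟩ := (IsPGroup.of_equiv hRp (Subgroup.subgroupOfEquivOfLe hR).symm).exists_le_sylow
  obtain ⟨m, hm⟩ := MulAction.exists_smul_eq M Q PS
  refine ⟨m, m.2, fun r hr => ?_⟩
  have h1 : (⟨r, hR hr⟩ : M) ∈ (Q : Subgroup M) := hQ (Subgroup.mem_subgroupOf.mpr hr)
  have h2 : MulAut.conj m • (⟨r, hR hr⟩ : M) ∈ ((m • Q : Sylow p M) : Subgroup M) :=
    Subgroup.smul_mem_pointwise_smul _ _ _ h1
  rw [hm] at h2
  exact Subgroup.mem_subgroupOf.mp h2

theorem factor_three {n : ℕ} (h1 : 27 ∣ n) (h2 : n ∣ 2 ^ 16 * 3 ^ 3) : n.factorization 3 = 3 := by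
  have hn : n ≠ 0 := fun h => by subst h; simp at h2
  have h3 : 3 ≤ n.factorization 3 :=
    (Nat.Prime.pow_dvd_iff_le_factorization Nat.prime_three hn).mp h1
  refine le_antisymm ?_ h3
  by_contra h
  have h4 : 3 ^ 4 ∣ n := (Nat.Prime.pow_dvd_iff_le_factorization Nat.prime_three hn).mpr (by omega)
  exact absurd (h4.trans h2) (by norm_num)

variable (S : Sys D F) {v : Fin 6 → G} (hv : Hex D v)

include S hv in
theorem tfix_tp : tfix D (tp v) = cl3 D (v 0) (v 1) (v 2) := tfix_prod S hv.tri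

include S hv in
theorem core_tp : core (tfix D (tp v)) = six D (v 0) (v 1) (v 2) := by
  rw [tfix_tp S hv]; rfl

include S hv in
theorem conj_far {g u : G} (hg : Commute (tp v) g) (hu : u ∈ far D v) : g * u * g⁻¹ ∈ far D v := by
  refine ⟨?_, fun h => hu.2 ?_⟩
  · rw [← tfix_tp S hv]
    exact conj_mem_tfix S.hD hg (by rw [tfix_tp S hv]; exact hu.1)
  · rw [← core_tp S hv] at h ⊢
    simpa [mul_assoc] using conj_mem_core S.hD (g := g⁻¹) hg.inv_right h

include S hv in
theorem exists_acts {g : G} (hg : Commute g (tp v)) : ∃ π, Acts v g π ∧ Halves π := by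
  classical
  have hmem : ∀ x, ∃ y, v y = g * v x * g⁻¹ := fun x => by
    have h : g * v x * g⁻¹ ∈ six D (v 0) (v 1) (v 2) := by
      rw [← core_tp S hv]
      exact conj_mem_core S.hD hg.symm (by rw [core_tp S hv]; exact hv.mem x)
    rwa [hv.range] at h
  choose f hf using hmem
  have hinj : Function.Injective f := fun x y h => hv.inj (mul_left_cancel (mul_right_cancel
    (show g * v x * g⁻¹ = g * v y * g⁻¹ by rw [← hf, ← hf, h])))
  refine ⟨Equiv.ofBijective f (Finite.injective_iff_bijective.mp hinj), fun x => (hf x).symm, ?_⟩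
  by_cases h0 : f 0 < 3
  · refine Or.inl fun x hx => ?_
    have h := hv.tri
    have h' : Tri D (v (f 0)) (v (f 1)) (v (f 2)) :=
      ⟨(hv.mem _).1.1, (hv.mem _).1.1, (hv.mem _).1.1, hv.inj.ne (hinj.ne (by decide)),
        hv.inj.ne (hinj.ne (by decide)), hv.inj.ne (hinj.ne (by decide)), (hv.mem _).2 _ (hv.mem _).1,
        (hv.mem _).2 _ (hv.mem _).1, (hv.mem _).2 _ (hv.mem _).1⟩
    have hp : v 0 * (v 1 * v 2) = v (f 0) * (v (f 1) * v (f 2)) := by
      rw [hf, hf, hf]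
      calc v 0 * (v 1 * v 2) = g * (v 0 * (v 1 * v 2)) * g⁻¹ := by
            rw [show g * (v 0 * (v 1 * v 2)) = v 0 * (v 1 * v 2) * g from hg.eq, mul_inv_cancel_right]
        _ = _ := by group
    have hset := triple_eq S h h' hp (((lt_three _).mp h0).imp (congrArg v) (Or.imp (congrArg v) (congrArg v)))
    have hxm : v (f x) ∈ ({v (f 0), v (f 1), v (f 2)} : Set G) := by
      rcases (lt_three x).mp hx with rfl | rfl | rfl <;> simp
    rw [hset] at hxm
    simp only [Set.mem_insert_iff, Set.mem_singleton_iff, hv.inj.eq_iff] at hxm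
    show f x < 3
    rcases hxm with e | e | e <;> rw [e] <;> decide
  · refine Or.inr fun x hx hfx => h0 ?_
    change f x < 3 at hfx
    have h := hv.tri
    have h' : Tri D (v (f 0)) (v (f 1)) (v (f 2)) :=
      ⟨(hv.mem _).1.1, (hv.mem _).1.1, (hv.mem _).1.1, hv.inj.ne (hinj.ne (by decide)),
        hv.inj.ne (hinj.ne (by decide)), hv.inj.ne (hinj.ne (by decide)), (hv.mem _).2 _ (hv.mem _).1,
        (hv.mem _).2 _ (hv.mem _).1, (hv.mem _).2 _ (hv.mem _).1⟩
    have hp : v 0 * (v 1 * v 2) = v (f 0) * (v (f 1) * v (f 2)) := by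
      rw [hf, hf, hf]
      calc v 0 * (v 1 * v 2) = g * (v 0 * (v 1 * v 2)) * g⁻¹ := by
            rw [show g * (v 0 * (v 1 * v 2)) = v 0 * (v 1 * v 2) * g from hg.eq, mul_inv_cancel_right]
        _ = _ := by group
    have hfa : v (f x) = v 0 ∨ v (f x) = v 1 ∨ v (f x) = v 2 :=
      ((lt_three _).mp hfx).imp (congrArg v) (Or.imp (congrArg v) (congrArg v))
    have hx' := (lt_three x).mp hx
    have hperm : v 0 * (v 1 * v 2) = v (f 1) * (v (f 0) * v (f 2)) := by
      rw [hp, ← mul_assoc, ← mul_assoc, h'.cab.eq]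
    have hperm2 : v 0 * (v 1 * v 2) = v (f 2) * (v (f 0) * v (f 1)) := by
      rw [hp, ← mul_assoc (v (f 2)), ← h'.cac.eq, mul_assoc, ← h'.cbc.eq]
    have hset : ({v (f 0), v (f 1), v (f 2)} : Set G) = {v 0, v 1, v 2} := by
      rcases hx' with rfl | rfl | rfl
      · exact triple_eq S h h' hp hfa
      · rw [← triple_eq S h ⟨h'.mb, h'.ma, h'.mc, Ne.symm h'.nab, h'.nbc, h'.nac, h'.cab.symm, h'.cbc, h'.cac⟩
          hperm hfa, Set.insert_comm]
      · rw [← triple_eq S h ⟨h'.mc, h'.ma, h'.mb, Ne.symm h'.nac, Ne.symm h'.nbc, h'.nab, h'.cac.symm,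
          h'.cbc.symm, h'.cab⟩ hperm2 hfa]
        ext z
        simp only [Set.mem_insert_iff, Set.mem_singleton_iff]
        tauto
    have h0m : v (f 0) ∈ ({v (f 0), v (f 1), v (f 2)} : Set G) := by simp
    rw [hset] at h0m
    simp only [Set.mem_insert_iff, Set.mem_singleton_iff, hv.inj.eq_iff] at h0m
    rcases h0m with e | e | e <;> rw [e] <;> decide

include hv in
theorem commute_tp_of_acts {g : G} {i j : Fin 3} (h : Acts v g (cyc i j)) : Commute g (tp v) := by
  have hT := hv.tri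
  have key : g * tp v * g⁻¹ = v (cyc i j 0) * (v (cyc i j 1) * v (cyc i j 2)) := by
    rw [← h, ← h, ← h]; group
  have hcases : ∀ i j : Fin 3, (cyc i j 0, cyc i j 1, cyc i j 2) = (0, 1, 2) ∨
      (cyc i j 0, cyc i j 1, cyc i j 2) = (1, 2, 0) ∨ (cyc i j 0, cyc i j 1, cyc i j 2) = (2, 0, 1) := by
    decide +kernel
  refine mul_inv_eq_iff_eq_mul.mp (key.trans ?_)
  rcases hcases i j with e | e | e <;> simp only [Prod.mk.injEq] at e <;> obtain ⟨e0, e1, e2⟩ := e <;>
    rw [e0, e1, e2]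
  · rw [tp, ← mul_assoc, (hT.cab.mul_right hT.cac).eq]
  · rw [tp, (hT.cac.symm.mul_right hT.cbc.symm).eq, ← (show v 0 * (v 1 * v 2) = v 0 * v 1 * v 2 from (mul_assoc _ _ _).symm)]

/-- elements of the six-preserving group acting by one of the nine -/
def nine (v : Fin 6 → G) : Subgroup G where
  carrier := {g | ∃ i j, Acts v g (cyc i j)}
  one_mem' := ⟨0, 0, cyc_zero ▸ Acts.one⟩
  mul_mem' := fun ⟨i, j, h⟩ ⟨k, l, h'⟩ => ⟨i + k, j + l, cyc_add i j k l ▸ h.mul h'⟩
  inv_mem' := fun ⟨i, j, h⟩ => ⟨-i, -j, cyc_inv i j ▸ h.inv⟩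

include S hv in
theorem is_nine {g : G} (hg : Commute g (tp v)) (h27 : g ^ 27 = 1) : g ∈ nine v := by
  obtain ⟨π, hπ, hh⟩ := exists_acts S hv hg
  have hpow : ∀ n : ℕ, Acts v (g ^ n) (π ^ n) := fun n => by
    induction n with
    | zero => simpa using Acts.one
    | succ n ih => rw [pow_succ, pow_succ]; exact ih.mul hπ
  obtain ⟨i, j, rfl⟩ := three_halves π hh ((hpow 27).unique hv.inj (h27 ▸ Acts.one))
  exact ⟨i, j, hπ⟩

include S hv in
theorem card_cent : Nat.card (Subgroup.centralizer ({tp v} : Set G)) = 2 ^ 16 * 3 ^ 3 := by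
  refine TripleCentralizer.card_centralizer_triple S
    ⟨[v 0, v 1, v 2], ?_, rfl, ?_, ?_, by simp⟩
  · simp [hv.tri.nab, hv.tri.nac, hv.tri.nbc]
  · simp [hv.tri.ma, hv.tri.mb, hv.tri.mc]
  · simp [hv.tri.cab, hv.tri.cab.symm, hv.tri.cac, hv.tri.cac.symm, hv.tri.cbc, hv.tri.cbc.symm]

/-- a subgroup of order 27 of the centraliser, acting by all nine -/
structure Syl (D : Set G) (v : Fin 6 → G) (P : Subgroup G) : Prop where
  card : Nat.card P = 27
  acts : ∀ u ∈ P, ∃ i j, Acts v u (cyc i j)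
  full : ∀ i j, ∃ u ∈ P, Acts v u (cyc i j)

include S hv in
theorem exists_syl : ∃ P, Syl D v P := by
  have : Fact (Nat.Prime 3) := ⟨Nat.prime_three⟩
  obtain ⟨P0, hP0⟩ := Sylow.exists_subgroup_card_pow_prime 3 (G := Subgroup.centralizer ({tp v} : Set G))
    (n := 3) (by rw [card_cent S hv]; exact dvd_mul_left _ _)
  set P := P0.map (Subgroup.centralizer ({tp v} : Set G)).subtype
  have hPc : Nat.card P = 27 := by
    rw [Subgroup.card_subtype, hP0]; norm_num
  have hPt : ∀ u ∈ P, Commute u (tp v) := fun u hu =>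
    Subgroup.mem_centralizer_singleton_iff.mp (Subgroup.map_subtype_le _ hu)
  have hnine : P ≤ nine v := fun u hu => is_nine S hv (hPt u hu)
    (orderOf_dvd_iff_pow_eq_one.mp (hPc ▸ Subgroup.orderOf_dvd_natCard P hu))
  have hfac : (Nat.card (nine v)).factorization 3 = 3 := factor_three (hPc ▸ Subgroup.card_dvd_of_le hnine)
    (card_cent S hv ▸ Subgroup.card_dvd_of_le fun g hg => by
      obtain ⟨i, j, h⟩ := hg
      exact Subgroup.mem_centralizer_singleton_iff.mpr (commute_tp_of_acts hv h).eq)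
  have hget : ∀ {g : G} {i j : Fin 3}, g ^ 3 = 1 → Acts v g (cyc i j) → ∃ u ∈ P, Acts v u (cyc i j) := by
    intro g i j g3 hg
    obtain ⟨m, hm, hm'⟩ := conj_into (p := 3) hnine (by rw [hPc, hfac]; rfl)
      (R := Subgroup.zpowers g) (Subgroup.zpowers_le.mpr ⟨i, j, hg⟩)
      (IsPGroup.iff_card.mpr (by
        obtain ⟨a, -, ha⟩ := (Nat.dvd_prime_pow Nat.prime_three).mp
          (show orderOf g ∣ 3 ^ 1 by rw [pow_one]; exact orderOf_dvd_of_pow_eq_one g3)
        exact ⟨a, by rw [Nat.card_zpowers, ha]⟩))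
    obtain ⟨k, l, hkl⟩ := hm
    refine ⟨m * g * m⁻¹, hm' g (Subgroup.mem_zpowers g), ?_⟩
    have := (hkl.mul hg).mul hkl.inv
    rwa [cyc_inv, cyc_add, cyc_add, show k + i + -k = i by abel, show l + j + -l = j by abel] at this
  obtain ⟨gb, gb3, hgb⟩ := real_three S hv (i := 3) (j := 4) (k := 5) (by decide) (by decide) (by decide)
  obtain ⟨ga, ga3, hga⟩ := real_three S hv (i := 0) (j := 1) (k := 2) (by decide) (by decide) (by decide)
  obtain ⟨u1, hu1, ha1⟩ := hget (i := 1) (j := 0) gb3 (by simpa [cyc, cB] using hgb)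
  obtain ⟨u2, hu2, ha2⟩ := hget (i := 0) (j := 1) ga3 (by simpa [cyc, cA] using hga)
  refine ⟨P, hPc, hnine, fun i j => ⟨u1 ^ (i : ℕ) * u2 ^ (j : ℕ), mul_mem (pow_mem hu1 _) (pow_mem hu2 _), ?_⟩⟩
  have hpow : ∀ {u : G} {π : Equiv.Perm (Fin 6)}, Acts v u π → ∀ n : ℕ, Acts v (u ^ n) (π ^ n) := fun {u π} h n => by
    induction n with
    | zero => simpa using Acts.one
    | succ n ih => rw [pow_succ, pow_succ]; exact ih.mul h
  have e : cyc i j = cyc 1 0 ^ (i : ℕ) * cyc 0 1 ^ (j : ℕ) := by revert i j; decide +kernel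
  rw [e]
  exact (hpow ha1 _).mul (hpow ha2 _)

/-- coordinates on the Sylow subgroup -/
def el (s s' z : G) (x : Fin 3 × Fin 3 × Fin 3) : G := s ^ (x.1 : ℕ) * s' ^ (x.2.1 : ℕ) * z ^ (x.2.2 : ℕ)

/-- the coordinates -/
structure Grid (D : Set G) (v : Fin 6 → G) (P : Subgroup G) (s s' z e : G) : Prop where
  s3 : s ^ 3 = 1
  s'3 : s' ^ 3 = 1
  z3 : z ^ 3 = 1
  css' : Commute s s'
  csz : Commute s z
  cs'z : Commute s' z
  acts : ∀ x, Acts v (el s s' z x) (cyc x.1 x.2.1)
  inj : Function.Injective (el s s' z)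
  mem : ∀ g, g ∈ P ↔ ∃ x, el s s' z x = g
  efar : e ∈ far D v
  cse : Commute s e
  cs'e : Commute s' e
  zfree : ∀ x ∈ far D v, ¬ Commute z x
  zord : orderOf z = 3
  znbr : (nbr D z (v 0)).ncard = 45

set_option maxHeartbeats 1000000 in
include S hv in
theorem exists_grid {P : Subgroup G} (hP : Syl D v P) : ∃ s s' z e, Grid D v P s s' z e := by
  classical
  have : Fact (Nat.Prime 3) := ⟨Nat.prime_three⟩
  have hcard := ncard_rest S hv.tri
  obtain ⟨hPc, hnine, hfull⟩ := hP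
  have h27 : ∀ {u : G}, u ∈ P → u ^ 27 = 1 := fun {u} hu =>
    orderOf_dvd_iff_pow_eq_one.mp (hPc ▸ Subgroup.orderOf_dvd_natCard P hu)
  choose i j hij using hnine
  choose sec hsecP hsec using hfull
  let K : Subgroup G :=
    { carrier := {g | g ∈ P ∧ Acts v g 1}
      one_mem' := ⟨one_mem P, Acts.one⟩
      mul_mem' := fun ha hb => ⟨mul_mem ha.1 hb.1, by simpa using ha.2.mul hb.2⟩
      inv_mem' := fun ha => ⟨inv_mem ha.1, by simpa using ha.2.inv⟩ }
  have hKc : Nat.card K = 3 := by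
    have hrow : ∀ g, g ∈ P → ∀ a b, Acts v g (cyc a b) → (sec a b)⁻¹ * g ∈ K := fun g hg a b h =>
      ⟨mul_mem (inv_mem (hsecP a b)) hg, by simpa using (hsec a b).inv.mul h⟩
    have e : Nat.card ((Fin 3 × Fin 3) × K) = Nat.card P := by
      refine Nat.card_eq_of_bijective (fun p : (Fin 3 × Fin 3) × K =>
        (⟨sec p.1.1 p.1.2 * p.2, mul_mem (hsecP _ _) p.2.2.1⟩ : P)) ⟨fun p q h => ?_, fun g => ?_⟩
      · have h' : sec p.1.1 p.1.2 * p.2 = sec q.1.1 q.1.2 * q.2 := congrArg Subtype.val h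
        have h1 := ((hsec p.1.1 p.1.2).mul p.2.2.2).unique hv.inj (h' ▸ (hsec q.1.1 q.1.2).mul q.2.2.2)
        rw [mul_one, mul_one] at h1
        obtain ⟨e1, e2⟩ := cyc_inj _ _ _ _ h1
        have e12 : p.1 = q.1 := Prod.ext e1 e2
        rw [e12] at h'
        exact Prod.ext e12 (Subtype.ext (mul_left_cancel h'))
      · exact ⟨((i g g.2, j g g.2), ⟨_, hrow g g.2 _ _ (hij g g.2)⟩), Subtype.ext (mul_inv_cancel_left _ _)⟩
    rw [Nat.card_prod, Nat.card_prod, Nat.card_fin, hPc] at e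
    omega
  obtain ⟨z, hzo⟩ := exists_prime_orderOf_dvd_card' (G := K) 3 (by rw [hKc])
  rw [← Subgroup.orderOf_coe] at hzo
  have hzP : (z : G) ∈ P := z.2.1
  have hzA : Acts v (z : G) 1 := z.2.2
  have z3 : (z : G) ^ 3 = 1 := hzo ▸ pow_orderOf_eq_one _
  have hKz : ∀ g ∈ K, ∃ k : Fin 3, (z : G) ^ (k : ℕ) = g := by
    intro g hg
    have hle : Subgroup.zpowers (z : G) ≤ K := Subgroup.zpowers_le.mpr z.2
    have heq := Subgroup.eq_of_le_of_card_ge hle (by rw [Nat.card_zpowers, hzo, hKc])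
    rw [← heq] at hg
    obtain ⟨n, hn⟩ := (isOfFinOrder_of_finite _).mem_powers_iff_mem_zpowers.mpr hg
    exact ⟨⟨n % 3, Nat.mod_lt _ (by norm_num)⟩, by rw [← hn]; exact (pow_eq_pow_mod n z3).symm⟩
  have hzc : ∀ {u}, u ∈ P → Commute u (z : G) := by
    intro u hu
    have hconj : u * z * u⁻¹ ∈ K := ⟨mul_mem (mul_mem hu hzP) (inv_mem hu), by
      simpa using ((hij u hu).mul hzA).mul (hij u hu).inv⟩
    obtain ⟨k, hk⟩ := hKz _ hconj
    have hiter : ∀ n : ℕ, u ^ n * z * (u ^ n)⁻¹ = (z : G) ^ ((k : ℕ) ^ n) := by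
      intro n
      induction n with
      | zero => simp
      | succ n ih =>
        rw [show u ^ (n + 1) * z * (u ^ (n + 1))⁻¹ = u * (u ^ n * z * (u ^ n)⁻¹) * u⁻¹ by rw [pow_succ']; group,
          ih, ← conj_pow, ← hk, ← pow_mul, pow_succ' (k : ℕ) n]
    have h := hiter 27
    rw [h27 hu, one_mul, inv_one, mul_one] at h
    have hne : (z : G) ≠ 1 := fun e => by rw [e, orderOf_one] at hzo; norm_num at hzo
    fin_cases k
    · exfalso
      simp at hk
      exact hne (by simpa using hk.symm)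
    · simp only [pow_one] at hk
      exact mul_inv_eq_iff_eq_mul.mp hk.symm
    · exfalso
      have e : (2 : ℕ) ^ 27 % 3 = 2 := by norm_num
      change (z : G) = (z : G) ^ ((2 : ℕ) ^ 27) at h
      rw [pow_eq_pow_mod _ z3, e] at h
      exact hne (mul_left_cancel (a := (z : G)) (by rw [mul_one, ← pow_two]; exact h.symm))
  have hz45 : (nbr D (z : G) (v 0)).ncard = 45 := by
    have hfx : ∀ x, Commute (z : G) (v x) := fun x => (hzA.fix hv.inj x).mpr rfl
    have hne : (z : G) ≠ 1 := fun e => by rw [e, orderOf_one] at hzo; norm_num at hzo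
    have hE : ∀ {k q : ℕ}, TypeParts D (z : G) (v 0) k q → (Set.range v \ {v 0}).ncard * q ≤ k := fun {k q} ht =>
      parts_clique ht (fun y hy => by
        obtain ⟨⟨x, rfl⟩, hx⟩ := hy
        exact ⟨⟨(hv.mem x).1.1, hx, (hv.mem x).1.2.1⟩, hfx x⟩) fun a ha b hb => by
        obtain ⟨⟨x, rfl⟩, -⟩ := ha
        obtain ⟨⟨y, rfl⟩, -⟩ := hb
        exact (hv.mem x).2 _ (hv.mem y).1
    have h5 : (Set.range v \ {v 0}).ncard = 5 := by
      rw [Set.ncard_sdiff_singleton_of_mem (show v 0 ∈ Set.range v from ⟨0, rfl⟩), Set.ncard_range_of_injective hv.inj, Nat.card_fin]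
    rcases ncard_nbr_cases S z3 hne hv.tri.ma (hfx 0) with h | h | h
    · exact h
    · have := hE ((typeParts_of S z3 hne hv.tri.ma (hfx 0)).1 h); omega
    · have := hE ((typeParts_of S z3 hne hv.tri.ma (hfx 0)).2 h); omega
  have hzfree : ∀ x ∈ far D v, ¬ Commute (z : G) x := by
    intro x hx hzx
    have hfx : ∀ x, Commute (z : G) (v x) := fun x => (hzA.fix hv.inj x).mpr rfl
    have hne : (z : G) ≠ 1 := fun e => by rw [e, orderOf_one] at hzo; norm_num at hzo
    have hnot : ∀ y, x ≠ v y := fun y e => hx.2 (e ▸ hv.mem y)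
    have := four_clique S z3 hne ⟨hv.tri.ma, hfx 0⟩ hz45 (E := insert x (Set.range v \ {v 0}))
      (by
        rintro y (rfl | ⟨⟨k, rfl⟩, hk⟩)
        · exact ⟨⟨hx.1.1, hnot 0, hx.1.2.1⟩, hzx⟩
        · exact ⟨⟨(hv.mem k).1.1, hk, (hv.mem k).1.2.1⟩, hfx k⟩)
      (by
        rintro a (rfl | ⟨⟨k, rfl⟩, -⟩) b (rfl | ⟨⟨l, rfl⟩, -⟩)
        exacts [Commute.refl _, ((hv.mem l).2 _ hx.1).symm, (hv.mem k).2 _ hx.1, (hv.mem k).2 _ (hv.mem l).1])
    rw [Set.ncard_insert_of_notMem (fun h => by obtain ⟨⟨y, hy⟩, -⟩ := h; exact hnot y hy.symm) (Set.toFinite _),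
      Set.ncard_sdiff_singleton_of_mem (show v 0 ∈ Set.range v from ⟨0, rfl⟩), Set.ncard_range_of_injective hv.inj, Nat.card_fin] at this
    omega
  -- a point with stabiliser of order nine
  have hst : ∀ g ∈ P, ∀ u ∈ far D v, g * u * g⁻¹ ∈ far D v := fun g hg u hu =>
    conj_far S hv (commute_tp_of_acts hv (hij g hg)).symm hu
  letI : MulAction P (far D v) :=
    { smul := fun g u => ⟨g.1 * u.1 * g.1⁻¹, hst g.1 g.2 u.1 u.2⟩
      one_smul := fun u => Subtype.ext (show (1 : G) * u.1 * (1 : G)⁻¹ = u.1 by group)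
      mul_smul := fun g h u => Subtype.ext (show (g.1 * h.1) * u.1 * (g.1 * h.1)⁻¹ =
        g.1 * (h.1 * u.1 * h.1⁻¹) * g.1⁻¹ by group) }
  have hstab : ∀ {g : P} {u : far D v}, g ∈ MulAction.stabilizer P u ↔ Commute (g : G) u := fun {g u} => by
    rw [MulAction.mem_stabilizer_iff, Subtype.ext_iff]
    show (g : G) * u * (g : G)⁻¹ = u ↔ _
    exact mul_inv_eq_iff_eq_mul
  have hWinj : ∀ (u : far D v) (g : P), g ∈ MulAction.stabilizer P u → Acts v (g : G) 1 → g = 1 := by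
    intro u g hg hA
    obtain ⟨k, hk⟩ := hKz g ⟨g.2, hA⟩
    have hc := hstab.mp hg
    rw [← hk] at hc
    fin_cases k
    · exact Subtype.ext (by rw [← hk]; simp)
    · exact absurd (by simpa using hc) (hzfree u u.2)
    · exfalso
      refine hzfree u u.2 ?_
      have := (show Commute ((z : G) ^ 2) u from hc).pow_left 2
      rwa [← pow_mul, pow_eq_pow_mod _ z3, show 2 * 2 % 3 = 1 from rfl, pow_one] at this
  obtain ⟨u, hu⟩ : ∃ u : far D v, Nat.card (MulAction.stabilizer P u) = 9 := by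
    by_contra hcon
    push Not at hcon
    have hle : ∀ u : far D v, Nat.card (MulAction.stabilizer P u) ≤ 9 := fun u => by
      have h := Nat.card_le_card_of_injective
        (fun g : MulAction.stabilizer P u => ((i g.1.1 g.1.2, j g.1.1 g.1.2) : Fin 3 × Fin 3)) fun g h e => by
          have e' := Prod.mk.inj e
          have hA : Acts v ((g.1 * h.1⁻¹ : P) : G) 1 := by
            have := (hij g.1.1 g.1.2).mul (hij h.1.1 h.1.2).inv
            rwa [e'.1, e'.2, mul_inv_cancel] at this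
          exact Subtype.ext (mul_inv_eq_one.mp (hWinj u _ (mul_mem g.2 (inv_mem h.2)) hA))
      rwa [Nat.card_prod, Nat.card_fin] at h
    let : Fintype (far D v) := Fintype.ofFinite _
    let : Fintype P := Fintype.ofFinite P
    have h9 : ∀ u : far D v, 9 ∣ Nat.card (MulAction.orbit P u) := fun u => by
      have h := Nat.card_congr (MulAction.orbitProdStabilizerEquivGroup P u)
      rw [Nat.card_prod, hPc] at h
      obtain ⟨k, hk, hk'⟩ := (Nat.dvd_prime_pow Nat.prime_three).mp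
        (show Nat.card (MulAction.stabilizer P u) ∣ 3 ^ 3 from ⟨Nat.card (MulAction.orbit P u), by rw [show (3 : ℕ) ^ 3 = 27 from rfl, ← h]; ring⟩)
      have h1 := hle u
      have h2 := hcon u
      rw [hk'] at h h1 h2
      have hk2 : k ≤ 1 := by
        by_contra hk2
        interval_cases k <;> omega
      interval_cases k
      · exact ⟨3, by simpa using h⟩
      · exact ⟨1, by omega⟩
    have hsum := Nat.card_congr (MulAction.selfEquivSigmaOrbits P (far D v))
    rw [Nat.card_sigma, Nat.card_coe_set_eq, hcard] at hsum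
    have : 9 ∣ 48 := hsum ▸ Finset.dvd_sum fun ω _ => h9 _
    norm_num at this
  -- the two generators fixing the point
  set W := MulAction.stabilizer P u
  have hWA : ∀ a b, ∃ g : P, g ∈ W ∧ Acts v (g : G) (cyc a b) := by
    have hinj : Function.Injective fun g : W => ((i g.1.1 g.1.2, j g.1.1 g.1.2) : Fin 3 × Fin 3) := fun g h e => by
      have e' := Prod.mk.inj e
      have hA : Acts v ((g.1 * h.1⁻¹ : P) : G) 1 := by
        have := (hij g.1.1 g.1.2).mul (hij h.1.1 h.1.2).inv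
        rwa [e'.1, e'.2, mul_inv_cancel] at this
      exact Subtype.ext (mul_inv_eq_one.mp (hWinj u _ (mul_mem g.2 (inv_mem h.2)) hA))
    have hbij := (Nat.bijective_iff_injective_and_card _).mpr ⟨hinj, by rw [hu, Nat.card_prod, Nat.card_fin]⟩
    intro a b
    obtain ⟨g, hg⟩ := hbij.2 (a, b)
    obtain ⟨e1, e2⟩ := Prod.mk.inj hg
    exact ⟨g.1, g.2, by have h := hij g.1.1 g.1.2; rwa [e1, e2] at h⟩
  obtain ⟨s, hsW, hsA⟩ := hWA 1 0
  obtain ⟨s', hs'W, hs'A⟩ := hWA 0 1
  have hWone : ∀ {g : P}, g ∈ W → Acts v (g : G) 1 → (g : G) = 1 := fun hg h => by rw [hWinj u _ hg h]; rfl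
  have hs3 : (s : G) ^ 3 = 1 := hWone (g := s ^ 3) (pow_mem hsW 3) (by
    rw [SubmonoidClass.coe_pow, pow_succ, pow_two]
    have := (hsA.mul hsA).mul hsA
    rwa [cyc_add, cyc_add, show cyc (1 + 1 + 1) (0 + 0 + 0) = 1 by decide +kernel] at this)
  have hs'3 : (s' : G) ^ 3 = 1 := hWone (g := s' ^ 3) (pow_mem hs'W 3) (by
    rw [SubmonoidClass.coe_pow, pow_succ, pow_two]
    have := (hs'A.mul hs'A).mul hs'A
    rwa [cyc_add, cyc_add, show cyc (0 + 0 + 0) (1 + 1 + 1) = 1 by decide +kernel] at this)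
  have hss' : Commute (s : G) s' := by
    have h := hWone (g := s * s' * s⁻¹ * s'⁻¹) (mul_mem (mul_mem (mul_mem hsW hs'W) (inv_mem hsW)) (inv_mem hs'W))
      (by
        have := ((hsA.mul hs'A).mul hsA.inv).mul hs'A.inv
        rwa [cyc_inv, cyc_inv, cyc_add, cyc_add, cyc_add,
          show cyc (1 + 0 + -1 + -0) (0 + 1 + -0 + -1) = 1 by decide +kernel] at this)
    exact mul_inv_eq_iff_eq_mul.mp (mul_inv_eq_one.mp h)
  have hpow : ∀ {g : G} {π : Equiv.Perm (Fin 6)}, Acts v g π → ∀ n : ℕ, Acts v (g ^ n) (π ^ n) := fun {g π} h n => by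
    induction n with
    | zero => simpa using Acts.one
    | succ n ih => rw [pow_succ, pow_succ]; exact ih.mul h
  have hacts : ∀ x, Acts v (el (s : G) s' z x) (cyc x.1 x.2.1) := fun x => by
    have h := ((hpow hsA (x.1 : ℕ)).mul (hpow hs'A (x.2.1 : ℕ))).mul (hpow hzA (x.2.2 : ℕ))
    rwa [one_pow, mul_one, show cyc 1 0 ^ (x.1 : ℕ) * cyc 0 1 ^ (x.2.1 : ℕ) = cyc x.1 x.2.1 by
      generalize x.1 = a, x.2.1 = b; revert a b; decide +kernel] at h
  have hinj : Function.Injective (el (s : G) s' z) := by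
    rintro ⟨a, b, c⟩ ⟨a', b', c'⟩ he
    obtain ⟨rfl, rfl⟩ := cyc_inj _ _ _ _ ((hacts (a, b, c)).unique hv.inj (he ▸ hacts (a', b', c')))
    have hc := mul_left_cancel (show (s : G) ^ (a : ℕ) * (s' : G) ^ (b : ℕ) * (z : G) ^ (c : ℕ) =
      (s : G) ^ (a : ℕ) * (s' : G) ^ (b : ℕ) * (z : G) ^ (c' : ℕ) from he)
    have := pow_eq_pow_iff_modEq.mp hc
    rw [hzo, Nat.ModEq, Nat.mod_eq_of_lt c.2, Nat.mod_eq_of_lt c'.2] at this
    rw [Fin.ext this]
  refine ⟨s, s', z, u, hs3, hs'3, z3, hss', hzc s.2, hzc s'.2, hacts, hinj, fun g => ⟨fun hg => ?_, ?_⟩, u.2,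
    hstab.mp hsW, hstab.mp hs'W, hzfree, hzo, hz45⟩
  · have hsub : Set.range (el (s : G) s' z) ⊆ (P : Set G) := by
      rintro _ ⟨x, rfl⟩
      exact mul_mem (mul_mem (pow_mem s.2 _) (pow_mem s'.2 _)) (pow_mem hzP _)
    have heq := Set.eq_of_subset_of_ncard_le hsub (by
      rw [← Nat.card_coe_set_eq (P : Set G), Set.ncard_range_of_injective hinj, Nat.card_prod, Nat.card_prod,
        Nat.card_fin]
      exact le_of_eq hPc) (Set.toFinite _)
    exact (Set.ext_iff.mp heq g).mpr hg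
  · rintro ⟨x, rfl⟩
    exact mul_mem (mul_mem (pow_mem s.2 _) (pow_mem s'.2 _)) (pow_mem hzP _)

end Cfsg.Agent.Lib.FischerMTypes.Threes
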