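import Mathlib
import Cfsg.Agent.Lib.FischerMTypes.Thirteen.Fixed
import Cfsg.Agent.Lib.FischerMTypes.Threes.Frames
import Cfsg.Agent.Lib.FischerMTypes.Threes.Burnside

/-!
Type M(22): the numbers of transpositions centralised by an element of order three.
-/

set_option autoImplicit false
set_option linter.style.haveILetI false
set_option linter.unusedSectionVars false

namespace Cfsg.Agent.Lib.FischerMTypes.Threes

open Cfsg.Agent.Lib.FischerMTypes.Basic Cfsg.Agent.Lib.FischerMTypes.Primitive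
  Cfsg.Agent.Lib.FischerMTypes.Thirteen Cfsg.Agent.Lib.FischerMTypes.TraceSize
open Cfsg.Agent.Lib.FischerMTypes.TraceCounts (Sys)

variable {G : Type*} [Group G] [Finite G] {D : Set G}
variable {F : Type} [Field F] [Fintype F]

/-- locally complete multipartite closed sets have an odd number of components -/
theorem odd_parts {T : Set G} (hT : IsClosedSet T) (hTD : T ⊆ D) (hD : Cfsg.IsThreeTranspositionGroup D)
    {k q : ℕ} (hqk : q < k) (hk : ∀ d ∈ T, {e | e ∈ T ∧ e ∈ perp D d}.ncard = k)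
    (hlam : ∀ d ∈ T, ∀ u ∈ T, u ∈ perp D d → {v | v ∈ T ∧ v ∈ perp D d ∧ v ∈ perp D u}.ncard + q = k)
    (htr : ∀ d ∈ T, ∀ u ∈ T, ∀ v ∈ T, ∀ w ∈ T, u ∈ perp D d → v ∈ perp D d → w ∈ perp D d →
      v ∉ perp D u → w ∉ perp D v → w ∉ perp D u) {o : G} (ho : o ∈ T) :
    ∃ m, Odd m ∧ m ≠ 5 ∧ T.ncard = m * (k + q) := by
  classical
  let N : G → Set G := fun d => {e | e ∈ T ∧ e ∈ perp D d}
  have hsymm : ∀ {d e : G}, d ∈ T → e ∈ N d → d ∈ N e := fun hd he =>
    ⟨hd, hTD hd, Ne.symm he.2.2.1, he.2.2.2.symm⟩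
  have hirr : ∀ d : G, d ∉ N d := fun d h => h.2.2.1 rfl
  have hns : ∀ {a b : G}, a ∈ T → b ∈ T → b ∉ perp D a → a ∉ perp D b := fun ha hb h h' =>
    h (hsymm hb ⟨ha, h'⟩).2
  have twin : ∀ d ∈ T, ∀ e ∈ N d, ∀ z ∈ N e, z ∉ perp D d → N z = N d := by
    intro d hd e he z hz hzd
    have hdz := hns hd hz.1 hzd
    have step : ∀ w ∈ T, w ∈ perp D e → w ∈ N d → w ∈ N z := fun w hw hwe hwd => by
      by_contra hwz
      exact htr e he.1 d hd z hz.1 w hw (hsymm hd he).2 hz.2 hwe hzd (fun h => hwz ⟨hw, h⟩) hwd.2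
    have hsub : N d ⊆ N z := by
      intro u hu
      by_cases hue : u ∈ perp D e
      · exact step u hu.1 hue hu
      obtain ⟨w, hw, hwd, hwe⟩ := Set.nonempty_of_ncard_ne_zero
        (s := {v | v ∈ T ∧ v ∈ perp D d ∧ v ∈ perp D e}) (by have := hlam d hd e he.1 he.2; omega)
      have hwu : u ∈ perp D w := by
        by_contra huw
        exact htr d hd e he.1 u hu.1 w hw he.2 hu.2 hwd hue (hns hw hu.1 huw) hwe
      have hwz : w ∈ N z := step w hw hwe ⟨hw, hwd⟩
      by_contra huz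
      exact htr w hw d hd z hz.1 u hu.1 (hsymm hd ⟨hw, hwd⟩).2 (hsymm hz.1 hwz).2 hwu hzd
        (fun h => huz ⟨hu.1, h⟩) hu.2
    exact (Set.eq_of_subset_of_ncard_le hsub
      (le_of_eq ((hk z hz.1).trans (hk d hd).symm)) (Set.toFinite _)).symm
  let Tw : G → Set G := fun d => {z | z ∈ T ∧ N z = N d}
  let Cp : G → Set G := fun d => Tw d ∪ N d
  have hTw : ∀ d ∈ T, (Tw d).ncard = q := by
    intro d hd
    obtain ⟨e, he⟩ : (N d).Nonempty := Set.nonempty_of_ncard_ne_zero (by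
      show {e | e ∈ T ∧ e ∈ perp D d}.ncard ≠ 0
      rw [hk d hd]; omega)
    have hset : Tw d = N e \ {v | v ∈ T ∧ v ∈ perp D d ∧ v ∈ perp D e} := by
      ext z
      constructor
      · rintro ⟨hz, hN⟩
        exact ⟨hsymm hz (hN.symm ▸ he), fun h => hirr z (hN ▸ ⟨hz, h.2.1⟩)⟩
      · rintro ⟨hz, hn⟩
        exact ⟨hz.1, twin d hd e he z hz fun h => hn ⟨hz.1, h, hz.2⟩⟩
    have h1 := Set.ncard_sdiff_add_ncard_of_subset
      (s := {v | v ∈ T ∧ v ∈ perp D d ∧ v ∈ perp D e}) (t := N e) (fun v hv => ⟨hv.1, hv.2.2⟩) (Set.toFinite _)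
    have h2 : (N e).ncard = k := hk e he.1
    have h3 := hlam d hd e he.1 he.2
    rw [hset]
    omega
  have hcard : ∀ d ∈ T, (Cp d).ncard = k + q := fun d hd => by
    show (Tw d ∪ N d).ncard = k + q
    rw [Set.ncard_union_eq (Set.disjoint_left.mpr fun z (hz : z ∈ Tw d) (hz' : z ∈ N d) => hirr z (hz.2.symm ▸ hz')) (Set.toFinite _)
      (Set.toFinite _), hTw d hd, show (N d).ncard = k from hk d hd, add_comm q k]
  have hcls : ∀ d ∈ T, ∀ z ∈ Cp d, Cp z = Cp d := by
    intro d hd z hz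
    rcases hz with hz | hz
    · show Tw z ∪ N z = Tw d ∪ N d
      rw [hz.2, show Tw z = Tw d from Set.ext fun w => and_congr_right fun _ => by rw [hz.2]]
    · have hsub : Cp z ⊆ Cp d := by
        rintro v (hv | hv)
        · have hdv : d ∈ N v := hv.2.symm ▸ hsymm hd hz
          exact Or.inr (hsymm hv.1 hdv)
        · by_cases hvd : v ∈ perp D d
          · exact Or.inr ⟨hv.1, hvd⟩
          · exact Or.inl ⟨hv.1, twin d hd z hz v hv hvd⟩
      exact Set.eq_of_subset_of_ncard_le hsub (by rw [hcard d hd, hcard z hz.1]) (Set.toFinite _)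
  have hself : ∀ d ∈ T, d ∈ Cp d := fun d hd => Or.inl ⟨hd, rfl⟩
  have hinvol : ∀ z : G, o * (o * z * o) * o = z := fun z => conj_self_inv hT.1 ho z
  have hcjT : ∀ d ∈ T, ∀ z ∈ T, d * z * d ∈ T := hT.2
  have hcj : ∀ d ∈ T, ∀ z ∈ T, ∀ w ∈ Cp z, d * w * d ∈ Cp (d * z * d) := by
    intro d hd z hz
    have hN : ∀ p, ∀ w, w ∈ N p → d * w * d ∈ N (d * p * d) := fun p w hw => by
      refine ⟨hcjT d hd w hw.1, ?_⟩
      have := (conj_mem_perp_iff hD d p w).mpr hw.2
      rwa [inv_eq hT.1 hd] at this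
    have hNeq : ∀ p, N (d * p * d) = (fun w => d * w * d) '' N p := fun p => Set.ext fun w => ⟨fun hw =>
      ⟨d * w * d, by simpa [conj_self_inv hT.1 hd] using hN _ _ hw, conj_self_inv hT.1 hd w⟩, fun ⟨v, hv, e⟩ =>
      e ▸ hN p v hv⟩
    rintro w (hw | hw)
    · refine Or.inl ⟨hcjT d hd w hw.1, ?_⟩
      rw [hNeq, hNeq, hw.2]
    · exact Or.inr (hN z w hw)
  let K := (Set.toFinite T).toFinset.image Cp
  have hmem : ∀ {s}, s ∈ K ↔ ∃ d ∈ T, Cp d = s := fun {s} => by simp [K]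
  have hcount : T.ncard = K.card * (k + q) := by
    rw [Set.ncard_eq_toFinset_card T (Set.toFinite _), Finset.card_eq_sum_card_image Cp]
    refine Finset.sum_const_nat fun s hs => ?_
    obtain ⟨d, hd, rfl⟩ := hmem.mp hs
    rw [← hcard d hd, Set.ncard_eq_toFinset_card (Cp d) (Set.toFinite _)]
    congr 1
    ext z
    simp only [Finset.mem_filter, Set.Finite.mem_toFinset]
    constructor
    · rintro ⟨hz, he⟩
      rw [← he]
      exact hself z hz
    · exact fun hz => ⟨hz.elim (fun h => h.1) (fun h => h.1), hcls d hd z hz⟩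
  have hmove : ∀ a ∈ T, ∀ z ∈ T, z ∉ Cp a → a * z * a ∉ Cp a ∧ Cp (a * z * a) ≠ Cp z ∧
      Cp (a * z * a) = Cp (z * a * z) := fun a ha z hz hn => by
    have hnc : ¬ Commute a z := fun hc => hn (by
      by_cases h : z = a
      · rw [h]; exact hself a ha
      · exact Or.inr ⟨hz, hTD hz, h, hc⟩)
    refine ⟨fun h => hn ?_, fun h => hn ?_, by rw [braid hT.1 ha hz hnc]⟩
    · have h2 := hcj a ha a ha _ h
      rwa [conj_self_inv hT.1 ha, mul_self hT.1 ha, one_mul] at h2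
    · have h1 : a * z * a ∈ Cp z := h ▸ hself _ (hcjT a ha z hz)
      have h2 := hcj z hz z hz _ h1
      rw [mul_self hT.1 hz, one_mul, braid hT.1 ha hz hnc, conj_self_inv hT.1 hz] at h2
      exact (hcls z hz a h2).symm ▸ hself z hz
  let g : Set G → Set G := fun s => (fun w => o * w * o) '' s
  have hg : ∀ z ∈ T, g (Cp z) = Cp (o * z * o) := fun z hz => Set.ext fun w => ⟨fun ⟨v, hv, e⟩ =>
    e ▸ hcj o ho z hz v hv, fun hw => ⟨o * w * o, by
      simpa [hinvol] using hcj o ho _ (hcjT o ho z hz) w hw, hinvol w⟩⟩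
  have hgo : g (Cp o) = Cp o := by rw [hg o ho, mul_self hT.1 ho, one_mul]
  have hfix : ∀ z ∈ T, g (Cp z) = Cp z → Cp z = Cp o := fun z hz he => by
    rw [hg z hz] at he
    by_cases hc : Commute o z
    · by_cases hne : z = o
      · rw [hne]
      · exact hcls o ho z (Or.inr ⟨hz, hTD hz, hne, hc⟩)
    · have h1 : o * z * o ∈ Cp z := he ▸ hself _ (hcjT o ho z hz)
      have h2 := hcj z hz z hz _ h1
      rw [mul_self hT.1 hz, one_mul, braid hT.1 ho hz hc, conj_self_inv hT.1 hz] at h2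
      exact (hcls z hz o h2).symm
  have hzero : (((K.erase (Cp o)).card : ℕ) : ZMod 2) = 0 := by
    rw [Finset.cast_card]
    refine Finset.sum_involution (fun s _ => g s) (fun _ _ => by decide) (fun s hs _ he => ?_)
      (fun s hs => ?_) (fun s hs => ?_)
    · obtain ⟨hne, hs⟩ := Finset.mem_erase.mp hs
      obtain ⟨z, hz, rfl⟩ := hmem.mp hs
      exact hne (hfix z hz he)
    · obtain ⟨hne, hs⟩ := Finset.mem_erase.mp hs
      obtain ⟨z, hz, rfl⟩ := hmem.mp hs
      refine Finset.mem_erase.mpr ⟨fun he => hne ?_, hmem.mpr ⟨_, hcjT o ho z hz, (hg z hz).symm⟩⟩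
      have h := congrArg g he
      rwa [hgo, hg z hz, hg _ (hcjT o ho z hz), hinvol] at h
    · obtain ⟨-, hs⟩ := Finset.mem_erase.mp hs
      obtain ⟨z, hz, rfl⟩ := hmem.mp hs
      rw [hg z hz, hg _ (hcjT o ho z hz), hinvol]
  have hodd : Odd K.card := by
    obtain ⟨j, hj⟩ := (ZMod.natCast_eq_zero_iff_even (n := (K.erase (Cp o)).card)).mp hzero
    have := Finset.card_erase_add_one (s := K) (a := Cp o) (hmem.mpr ⟨o, ho, rfl⟩)
    exact ⟨j, by omega⟩
  refine ⟨K.card, hodd, fun h5 => ?_, hcount⟩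
  have hne : ∀ {a z : G}, a ∈ T → Cp z ≠ Cp a → z ∉ Cp a := fun ha h hz => h (hcls _ ha _ hz)
  have him : ∀ {a z z' : G}, a ∈ T → z ∈ T → z' ∈ T → Cp z' = Cp z → Cp (a * z' * a) = Cp (a * z * a) :=
    fun ha hz hz' h => hcls _ (hcjT _ ha _ hz) _ (hcj _ ha _ hz _ (h ▸ hself _ hz'))
  have hback : ∀ {a z w : G}, a ∈ T → z ∈ T → w ∈ T → Cp (a * z * a) = Cp w → Cp (a * w * a) = Cp z :=
    fun {a z w} ha hz hw h => by rw [him ha (hcjT a ha z hz) hw h.symm, conj_self_inv hT.1 ha]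
  have hex : ∀ {L : Finset (Set G)}, L.card < 5 → ∃ z ∈ T, Cp z ∉ L := fun {L} hL => by
    by_contra hcon
    have : K ⊆ L := fun s hs => by
      obtain ⟨z, hz, rfl⟩ := hmem.mp hs
      by_contra hh
      exact hcon ⟨z, hz, hh⟩
    have := Finset.card_le_card this
    omega
  obtain ⟨z1, hz1, h1⟩ := hex (L := {Cp o}) (by simp)
  rw [Finset.mem_singleton] at h1
  obtain ⟨a1, a2, a3⟩ := hmove o ho z1 hz1 (hne ho h1)
  set z2 := o * z1 * o
  have hz2 : z2 ∈ T := hcjT o ho z1 hz1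
  have h20 : Cp z2 ≠ Cp o := fun h => a1 (h ▸ hself z2 hz2)
  obtain ⟨z3, hz3, h3⟩ := hex (L := {Cp o, Cp z1, Cp z2}) (lt_of_le_of_lt Finset.card_le_three (by norm_num))
  simp only [Finset.mem_insert, Finset.mem_singleton, not_or] at h3
  obtain ⟨h30, h31, h32⟩ := h3
  obtain ⟨b1, b2, b3⟩ := hmove o ho z3 hz3 (hne ho h30)
  set z4 := o * z3 * o
  have hz4 : z4 ∈ T := hcjT o ho z3 hz3
  have h40 : Cp z4 ≠ Cp o := fun h => b1 (h ▸ hself z4 hz4)
  have h41 : Cp z4 ≠ Cp z1 := fun h => h32 (hback ho hz3 hz1 h).symm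
  have h42 : Cp z4 ≠ Cp z2 := fun h => h31 (by
    have := hback ho hz3 hz2 h
    rwa [conj_self_inv hT.1 ho, eq_comm] at this)
  obtain ⟨c1, c2, c3⟩ := hmove z1 hz1 z3 hz3 (hne hz1 h31)
  set x := z1 * z3 * z1
  have hx : x ∈ T := hcjT z1 hz1 z3 hz3
  have hcase : Cp x = Cp o ∨ Cp x = Cp z1 ∨ Cp x = Cp z2 ∨ Cp x = Cp z3 ∨ Cp x = Cp z4 := by
    by_contra hcon
    simp only [not_or] at hcon
    obtain ⟨e0, e1, e2, e3, e4⟩ := hcon
    have hsub : ({Cp o, Cp z1, Cp z2, Cp z3, Cp z4, Cp x} : Finset (Set G)) ⊆ K := fun s hs => by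
      simp only [Finset.mem_insert, Finset.mem_singleton] at hs
      rcases hs with rfl | rfl | rfl | rfl | rfl | rfl
      exacts [hmem.mpr ⟨o, ho, rfl⟩, hmem.mpr ⟨z1, hz1, rfl⟩, hmem.mpr ⟨z2, hz2, rfl⟩,
        hmem.mpr ⟨z3, hz3, rfl⟩, hmem.mpr ⟨z4, hz4, rfl⟩, hmem.mpr ⟨x, hx, rfl⟩]
    have := Finset.card_le_card hsub
    rw [Finset.card_insert_of_notMem (by simp [Ne.symm h1, Ne.symm h20, Ne.symm h30, Ne.symm h40, Ne.symm e0]),
      Finset.card_insert_of_notMem (by simp [Ne.symm a2, Ne.symm h31, Ne.symm h41, Ne.symm e1]),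
      Finset.card_insert_of_notMem (by simp [Ne.symm h32, Ne.symm h42, Ne.symm e2]),
      Finset.card_insert_of_notMem (by simp [Ne.symm b2, Ne.symm e3]),
      Finset.card_insert_of_notMem (by simp [Ne.symm e4]), Finset.card_singleton] at this
    omega
  rcases hcase with h | h | h | h | h
  · have e := hback hz1 hz3 ho h
    exact h32 (e.symm.trans a3.symm)
  · exact c1 (h ▸ hself x hx)
  · have e := hback hz1 hz3 hz2 h
    have e' : Cp (z1 * z2 * z1) = Cp o := hback hz1 ho hz2 a3.symm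
    exact h30 (e.symm.trans e')
  · exact c2 h
  · have e1 : Cp (z3 * z1 * z3) = Cp z4 := c3.symm.trans h
    have e2 : Cp (z3 * o * z3) = Cp z4 := b3.symm
    exact h1 ((hback hz3 hz1 hz4 e1).symm.trans (hback hz3 ho hz4 e2))

variable (S : Sys D F)

include S in
/-- the fixed set is regular -/
theorem regular {y d : G} (hy3 : y ^ 3 = 1) (hy : y ≠ 1) (hd : d ∈ fixd D y) {k : ℕ}
    (hk : (nbr D y d).ncard = k) : ∀ e ∈ fixd D y, {z | z ∈ fixd D y ∧ z ∈ perp D e}.ncard = k := fun e he => by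
  rw [← nbr_eq]; exact (nbr_same S hy3 hy he hd).trans hk

include S in
theorem bound {y d : G} (hy3 : y ^ 3 = 1) (hy : y ≠ 1) (hd : d ∈ fixd D y) :
    (fixd D y).ncard ≤ 5 * ((nbr D y d).ncard + 9) := by
  classical
  let : Fintype D := Fintype.ofFinite D
  exact ncard_le_of_regular S (fun t ht => ht.1) (regular S hy3 hy hd rfl)

include S in
theorem parts_data {y d : G} (hy3 : y ^ 3 = 1) (hy : y ≠ 1) (hd : d ∈ fixd D y) {k q : ℕ}
    (hkq : k = 18 ∧ q = 9 ∨ k = 9 ∧ q = 3) (hk : (nbr D y d).ncard = k) :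
    (∀ e ∈ fixd D y, ∀ u ∈ fixd D y, u ∈ perp D e →
        {v | v ∈ fixd D y ∧ v ∈ perp D e ∧ v ∈ perp D u}.ncard + q = k) ∧
      ∀ e ∈ fixd D y, ∀ u ∈ fixd D y, ∀ v ∈ fixd D y, ∀ w ∈ fixd D y, u ∈ perp D e → v ∈ perp D e →
        w ∈ perp D e → v ∉ perp D u → w ∉ perp D v → w ∉ perp D u := by
  have ht : ∀ e ∈ fixd D y, TypeParts D y e k q := fun e he => by
    have hn := (nbr_same S hy3 hy he hd).trans hk
    rcases hkq with ⟨rfl, rfl⟩ | ⟨rfl, rfl⟩
    exacts [(typeParts_of S hy3 hy he.1 he.2).1 hn, (typeParts_of S hy3 hy he.1 he.2).2 hn]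
  refine ⟨fun e he u hu hue => ?_, fun e he u hu v hv w hw hue hve hwe =>
    (ht e he).2.2 u ⟨hue, hu.2⟩ v ⟨hve, hv.2⟩ w ⟨hwe, hw.2⟩⟩
  rw [← (ht e he).2.1 u ⟨hue, hu.2⟩]
  congr 2
  exact Set.ext fun v => ⟨fun h => ⟨⟨h.2.1, h.1.2⟩, h.2.2⟩, fun h => ⟨⟨h.1.1.1, h.1.2⟩, h.1.1, h.2⟩⟩

include S in
theorem size_eighteen {y d : G} (hy3 : y ^ 3 = 1) (hy : y ≠ 1) (hd : d ∈ fixd D y)
    (hk : (nbr D y d).ncard = 18) : 27 ∣ (fixd D y).ncard ∧ (fixd D y).ncard % 2 = 1 := by
  obtain ⟨h1, h2⟩ := parts_data S hy3 hy hd (Or.inl ⟨rfl, rfl⟩) hk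
  refine ⟨dvd_of_parts (D := D) (fun t ht => ht.1) (q := 9) (by norm_num) (regular S hy3 hy hd hk) h1 h2, ?_⟩
  have hset : pts (fixd D y) d = insert d (nbr D y d) := by
    ext z
    constructor
    · rintro ⟨hz, hc⟩
      by_cases h : z = d
      · exact Or.inl h
      · exact Or.inr ⟨⟨hz.1, h, hc⟩, hz.2⟩
    · rintro (rfl | hz)
      · exact ⟨hd, Commute.refl _⟩
      · exact ⟨⟨hz.1.1, hz.2⟩, hz.1.2.2⟩
  have h := burnside_two (S.hD.1.1 d hd.1) (U := fixd D y) fun u hu => by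
    rw [inv_eq S.hD.1 hd.1]; exact (fixd_closed S.hD y).2 d hd u hu
  rw [hset, Set.ncard_insert_of_notMem (fun h => h.1.2.1 rfl) (Set.toFinite _), hk] at h
  omega

include S in
theorem size_nine {y d : G} (hy3 : y ^ 3 = 1) (hy : y ≠ 1) (hd : d ∈ fixd D y)
    (hk : (nbr D y d).ncard = 9) : (fixd D y).ncard % 24 = 12 ∧ (fixd D y).ncard ≤ 90 := by
  obtain ⟨h1, h2⟩ := parts_data S hy3 hy hd (Or.inr ⟨rfl, rfl⟩) hk
  obtain ⟨m, ⟨j, rfl⟩, -, hm⟩ := odd_parts (fixd_closed S.hD y) (fun t ht => ht.1) S.hD (q := 3) (by norm_num)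
    (regular S hy3 hy hd hk) h1 h2 hd
  have := bound S hy3 hy hd
  omega

include S in
theorem size_four {y d₀ : G} (hy : orderOf y = 3) (hd₀ : d₀ ∈ fixd D y)
    (hk45 : (nbr D y d₀).ncard = 45) : (fixd D y).ncard = 126 := by
  classical
  have hy3 : y ^ 3 = 1 := hy ▸ pow_orderOf_eq_one y
  have hy1 : y ≠ 1 := fun h => by rw [h, orderOf_one] at hy; norm_num at hy
  set T := fixd D y
  have hT : IsClosedSet T := fixd_closed S.hD y
  have h45 : ∀ {d : G}, d ∈ T → (nbr D y d).ncard = 45 := fun hd => (nbr_same S hy3 hy1 hd hd₀).trans hk45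
  have hfour : ∀ {d : G}, d ∈ T → TypeFour D y d := fun {d} hd => typeFour_of S hy3 hy1 hd.1 hd.2 (h45 hd)
  have hlam : ∀ {d u : G}, d ∈ T → u ∈ nbr D y d → (meet D y d u).ncard = 12 := fun {d u} hd hu => by
    rw [← (quad_facts S hd.1 (hfour hd)).2.1 u hu]
    congr 1
    exact Set.ext fun v => ⟨fun h => ⟨h.1, h.2.1⟩, fun h => ⟨h.1, h.2, h.1.2⟩⟩
  have memT : ∀ {d u : G}, u ∈ nbr D y d → u ∈ T := fun hu => ⟨hu.1.1, hu.2⟩
  have hirr : ∀ {d : G}, d ∉ nbr D y d := fun h => h.1.2.1 rfl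
  have hthree : ∀ {u p q : G}, u ∈ T → p ∈ nbr D y u → q ∈ nbr D y u → p ≠ q →
      (nbr D y u ∩ meet D y p q).ncard = 3 := fun {u p q} hu hp hq hne => by
    rw [← (quad_facts S hu.1 (hfour hu)).2.2.1 p hp q hq hne]
    congr 1
    exact Set.ext fun v => ⟨fun h => ⟨h.1, h.2.1.1, h.2.2.1⟩, fun h => ⟨h.1, ⟨h.2.1, h.1.2⟩, ⟨h.2.2, h.1.2⟩⟩⟩
  let R : G → G → Set G := fun d u => nbr D y u \ insert d (nbr D y d)
  have hR : ∀ {d u : G}, d ∈ T → u ∈ nbr D y d → (R d u).ncard = 32 := fun {d u} hd hu => by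
    have h1 := Set.ncard_sdiff_add_ncard_of_subset
      (s := insert d (meet D y d u)) (t := nbr D y u)
      (Set.insert_subset (mem_nbr_symm hd hu) Set.inter_subset_right) (Set.toFinite _)
    rw [Set.ncard_insert_of_notMem (fun h => hirr h.1) (Set.toFinite _), hlam hd hu, h45 (memT hu)] at h1
    have h2 : R d u = nbr D y u \ insert d (meet D y d u) := by
      ext v
      constructor
      · exact fun hv => ⟨hv.1, fun h => hv.2 (h.elim Or.inl fun h => Or.inr h.1)⟩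
      · exact fun hv => ⟨hv.1, fun h => hv.2 (h.elim Or.inl fun h => Or.inr ⟨h, hv.1⟩)⟩
    rw [h2]
    omega
  have hfar : ∀ {d u e : G}, d ∈ T → u ∈ nbr D y d → e ∈ R d u → ¬ Commute d e := fun {d u e} _ _ he hc =>
    he.2 (by
      by_cases h : e = d
      · exact Or.inl h
      · exact Or.inr ⟨⟨he.1.1.1, h, hc⟩, he.1.2⟩)
  -- the number of common neighbours depends only on the first point
  have hconst1 : ∀ {d u e e' : G}, d ∈ T → u ∈ nbr D y d → e ∈ R d u → e' ∈ R d u →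
      (meet D y d e).ncard = (meet D y d e').ncard := by
    intro d u e e' hd hu he he'
    obtain ⟨g, hg, -, h1, h2⟩ := (quad_facts S (memT hu).1 (hfour (memT hu))).2.2.2 d (mem_nbr_symm hd hu) e he.1 e' he'.1
      (hfar hd hu he) (hfar hd hu he')
    have h : meet D y d e' = (fun z => g * z * g⁻¹) '' meet D y d e := by
      ext z
      constructor
      · intro hz
        refine ⟨g⁻¹ * z * g, ⟨(nbr_conj S.hD hg).mp ?_, (nbr_conj S.hD hg).mp ?_⟩, by group⟩
        · rw [h1]; simpa [mul_assoc] using hz.1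
        · rw [h2]; simpa [mul_assoc] using hz.2
      · rintro ⟨w, hw, rfl⟩
        have a := (nbr_conj S.hD hg).mpr hw.1
        have b := (nbr_conj S.hD hg).mpr hw.2
        rw [h1] at a; rw [h2] at b
        exact ⟨a, b⟩
    rw [h, Set.ncard_image_of_injective _ fun u v h => by simpa using h]
  have hoverlap : ∀ {d u u' : G}, d ∈ T → u ∈ nbr D y d → u' ∈ nbr D y d → u' ∈ nbr D y u →
      (R d u ∩ R d u').Nonempty := by
    intro d u u' hd hu hu' huu'
    by_contra h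
    have hsub : meet D y u u' \ {d} ⊆ nbr D y u ∩ meet D y d u' := fun v hv => by
      have : v ∈ nbr D y d := by
        by_contra hvd
        exact h ⟨v, ⟨hv.1.1, fun e => e.elim (fun e => hv.2 e) hvd⟩,
          ⟨hv.1.2, fun e => e.elim (fun e => hv.2 e) hvd⟩⟩
      exact ⟨hv.1.1, this, hv.1.2⟩
    have h1 := Set.ncard_le_ncard hsub (Set.toFinite _)
    have hne' : d ≠ u' := fun e => hirr (e ▸ hu' : d ∈ nbr D y d)
    rw [hthree (memT hu) (mem_nbr_symm hd hu) huu' hne', Set.ncard_sdiff_singleton_of_mem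
      (show d ∈ meet D y u u' from ⟨mem_nbr_symm hd hu, mem_nbr_symm hd hu'⟩), hlam (memT hu) huu'] at h1
    omega
  have hconst : ∀ {d u u' e e' : G}, d ∈ T → u ∈ nbr D y d → u' ∈ nbr D y d → e ∈ R d u → e' ∈ R d u' →
      (meet D y d e).ncard = (meet D y d e').ncard := by
    intro d u u' e e' hd hu hu' he he'
    have step : ∀ {p p' : G}, p ∈ nbr D y d → p' ∈ nbr D y d → p' ∈ nbr D y p → ∀ f ∈ R d p, ∀ f' ∈ R d p',
        (meet D y d f).ncard = (meet D y d f').ncard := fun {p p'} hp hp' hpp f hf f' hf' => by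
      obtain ⟨z, hz, hz'⟩ := hoverlap hd hp hp' hpp
      exact (hconst1 hd hp hf hz).trans (hconst1 hd hp' hz' hf')
    by_cases huu : u = u'
    · exact hconst1 hd hu he (huu ▸ he')
    by_cases hc : u' ∈ nbr D y u
    · exact step hu hu' hc e he e' he'
    obtain ⟨w, hwd, hwu, hwu'⟩ := Set.nonempty_of_ncard_ne_zero
      (s := nbr D y d ∩ meet D y u u') (by rw [hthree hd hu hu' huu]; norm_num)
    obtain ⟨f, hf⟩ := Set.nonempty_of_ncard_ne_zero (s := R d w) (by rw [hR hd hwd]; norm_num)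
    exact (step hu hwd hwu e he f hf).trans (step hwd hu' (mem_nbr_symm (memT hu') hwu') f hf e' he')
  -- components
  let D2 : G → Set G := fun d => {e | e ∈ T ∧ ¬ Commute d e ∧ (meet D y d e).Nonempty}
  let Cp : G → Set G := fun d => insert d (nbr D y d) ∪ D2 d
  have hCpT : ∀ {d z : G}, d ∈ T → z ∈ Cp d → z ∈ T := fun {d z} hd hz =>
    hz.elim (fun h => h.elim (fun h => h ▸ hd) memT) And.left
  have hclose : ∀ {d z v : G}, d ∈ T → z ∈ Cp d → v ∈ nbr D y z → v ∈ Cp d := by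
    intro d z v hd hz hv
    have hvT := memT hv
    by_cases hvd : Commute d v
    · by_cases hveq : v = d
      · exact Or.inl (Or.inl hveq)
      · exact Or.inl (Or.inr ⟨⟨hvT.1, hveq, hvd⟩, hvT.2⟩)
    refine Or.inr ⟨hvT, hvd, ?_⟩
    rcases hz with (rfl | hz) | hz
    · exact absurd hv.1.2.2 hvd
    · exact ⟨z, hz, mem_nbr_symm (memT hz) hv⟩
    · obtain ⟨u, hud, huz⟩ := hz.2.2
      by_cases huv : Commute u v
      · by_cases hne' : u = v
        · exact absurd (hne' ▸ hud.1.2.2) hvd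
        · exact ⟨u, hud, ⟨hud.1.1, hne', huv.symm⟩, hud.2⟩
      · obtain ⟨q, hq, n1, n2, c1, c2⟩ := exists_shortcut hT hd (memT hud) hz.1 hvT hud.1.2.2
          huz.1.2.2.symm hv.1.2.2 huv hvd
        exact ⟨q, ⟨⟨hq.1, n1, c1.symm⟩, hq.2⟩, ⟨hq.1, n2, c2.symm⟩, hq.2⟩
  have hCpsub : ∀ {d z : G}, d ∈ T → z ∈ Cp d → Cp z ⊆ Cp d := by
    intro d z hd hz v hv
    rcases hv with (rfl | hv) | hv
    · exact hz
    · exact hclose hd hz hv
    · obtain ⟨w, hwz, hwv⟩ := hv.2.2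
      exact hclose hd (hclose hd hz hwz) (mem_nbr_symm hv.1 hwv)
  have hCpsymm : ∀ {d z : G}, d ∈ T → z ∈ Cp d → d ∈ Cp z := by
    rintro d z hd ((rfl | hz) | hz)
    · exact Or.inl (Or.inl rfl)
    · exact Or.inl (Or.inr (mem_nbr_symm hd hz))
    · exact Or.inr ⟨hd, fun h => hz.2.1 h.symm, hz.2.2.imp fun w hw => ⟨hw.2, hw.1⟩⟩
  have hCp : ∀ {d z : G}, d ∈ T → z ∈ Cp d → Cp z = Cp d := fun hd hz =>
    Set.Subset.antisymm (hCpsub hd hz) (hCpsub (hCpT hd hz) (hCpsymm hd hz))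
  have hlocal : ∀ d ∈ T, ∃ n μ, n * μ = 1440 ∧ μ ≤ 25 ∧ (Cp d).ncard = 46 + n := by
    intro d hd
    obtain ⟨u₀, hu₀⟩ := Set.nonempty_of_ncard_ne_zero (s := nbr D y d) (by rw [h45 hd]; norm_num)
    obtain ⟨e₀, he₀⟩ := Set.nonempty_of_ncard_ne_zero (s := R d u₀) (by rw [hR hd hu₀]; norm_num)
    set μ := (meet D y d e₀).ncard
    set n := (D2 d).ncard
    have hμ : ∀ e ∈ D2 d, (meet D y d e).ncard = μ := fun e he => by
      obtain ⟨u, hud, hue⟩ := he.2.2
      refine hconst hd hud hu₀ ⟨mem_nbr_symm he.1 hue, fun h => he.2.1 ?_⟩ he₀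
      rcases h with rfl | h
      · exact Commute.refl _
      · exact h.1.2.2
    have hdouble : n * μ = 1440 := by
      have key : ∑ u ∈ (nbr D y d).toFinite.toFinset, ((D2 d).toFinite.toFinset.filter (fun e => e ∈ nbr D y u)).card =
          ∑ e ∈ (D2 d).toFinite.toFinset, ((nbr D y d).toFinite.toFinset.filter (fun u => e ∈ nbr D y u)).card :=
        Finset.sum_card_bipartiteAbove_eq_sum_card_bipartiteBelow (r := fun u e => e ∈ nbr D y u)
      have e1 : ∀ u ∈ (nbr D y d).toFinite.toFinset,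
          ((D2 d).toFinite.toFinset.filter (fun e => e ∈ nbr D y u)).card = 32 := fun u hu => by
        rw [Set.Finite.mem_toFinset] at hu
        rw [← hR hd hu, Set.ncard_eq_toFinset_card _ (Set.toFinite _)]
        congr 1
        ext e
        simp only [Finset.mem_filter, Set.Finite.mem_toFinset]
        refine ⟨fun h => ⟨h.2, fun hh => h.1.2.1 ?_⟩, fun h =>
          ⟨⟨memT h.1, hfar hd hu h, u, hu, mem_nbr_symm (memT hu) h.1⟩, h.1⟩⟩
        rcases hh with rfl | hh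
        · exact Commute.refl _
        · exact hh.1.2.2
      have e2 : ∀ e ∈ (D2 d).toFinite.toFinset,
          ((nbr D y d).toFinite.toFinset.filter (fun u => e ∈ nbr D y u)).card = μ := fun e he => by
        rw [Set.Finite.mem_toFinset] at he
        rw [← hμ e he, Set.ncard_eq_toFinset_card _ (Set.toFinite _)]
        congr 1
        ext u
        simp only [Finset.mem_filter, Set.Finite.mem_toFinset]
        exact ⟨fun h => ⟨h.1, mem_nbr_symm (memT h.1) h.2⟩, fun h => ⟨h.1, mem_nbr_symm he.1 h.2⟩⟩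
      have f1 : (nbr D y d).toFinite.toFinset.card = 45 := by rw [← Set.ncard_eq_toFinset_card, h45 hd]
      have f2 : (D2 d).toFinite.toFinset.card = n := by rw [← Set.ncard_eq_toFinset_card]
      have := ((Finset.sum_const_nat e1).symm.trans key).trans (Finset.sum_const_nat e2)
      rw [f1, f2] at this
      omega
    have hμle : μ ≤ 25 := by
      set M := meet D y d e₀
      have he₀T : e₀ ∈ T := memT he₀.1
      have hed : ¬ Commute d e₀ := hfar hd hu₀ he₀
      have hin : ∀ u ∈ M, (nbr D y u ∩ M).ncard = 3 := fun u hu =>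
        hthree (memT hu.1) (mem_nbr_symm hd hu.1) (mem_nbr_symm he₀T hu.2) fun e => hed (e ▸ Commute.refl d)
      have key : ∑ u ∈ M.toFinite.toFinset, ((nbr D y d \ M).toFinite.toFinset.filter (fun p => p ∈ nbr D y u)).card =
          ∑ p ∈ (nbr D y d \ M).toFinite.toFinset, (M.toFinite.toFinset.filter (fun u => p ∈ nbr D y u)).card :=
        Finset.sum_card_bipartiteAbove_eq_sum_card_bipartiteBelow (r := fun u p => p ∈ nbr D y u)
      have hup : ∑ p ∈ (nbr D y d \ M).toFinite.toFinset, (M.toFinite.toFinset.filter (fun u => p ∈ nbr D y u)).card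
          ≤ (nbr D y d \ M).toFinite.toFinset.card * 12 := by
        refine (Finset.sum_le_card_nsmul _ _ 12 fun p hp => ?_).trans_eq (smul_eq_mul _ _)
        rw [Set.Finite.mem_toFinset] at hp
        rw [← hlam hd hp.1, Set.ncard_eq_toFinset_card _ (Set.toFinite _)]
        refine Finset.card_le_card fun u hu => ?_
        simp only [Finset.mem_filter, Set.Finite.mem_toFinset] at hu ⊢
        exact ⟨hu.1.1, mem_nbr_symm (memT hu.1.1) hu.2⟩
      rw [Finset.sum_congr rfl (g := fun _ => 9) (fun u hu => ?_)] at key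
      · rw [Finset.sum_const, smul_eq_mul, ← Set.ncard_eq_toFinset_card] at key
        rw [← key, ← Set.ncard_eq_toFinset_card] at hup
        have h1 := Set.ncard_sdiff_add_ncard_of_subset (s := M) (t := nbr D y d) Set.inter_subset_left (Set.toFinite _)
        rw [h45 hd] at h1
        have : M.ncard = μ := rfl
        omega
      · rw [Set.Finite.mem_toFinset] at hu
        have h1 := Set.ncard_sdiff_add_ncard_of_subset (s := nbr D y u ∩ M) (t := meet D y d u)
          (fun v hv => ⟨hv.2.1, hv.1⟩) (Set.toFinite _)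
        rw [hlam hd hu.1, hin u hu] at h1
        have hset : meet D y d u \ (nbr D y u ∩ M) = {p | p ∈ nbr D y d \ M ∧ p ∈ nbr D y u} := by
          ext p
          exact ⟨fun h => ⟨⟨h.1.1, fun hM => h.2 ⟨h.1.2, hM⟩⟩, h.1.2⟩, fun h => ⟨⟨h.1.1, h.2⟩, fun hh => h.1.2 hh.2⟩⟩
        rw [hset, Set.ncard_eq_toFinset_card _ (Set.toFinite _)] at h1
        rw [show (nbr D y d \ M).toFinite.toFinset.filter (fun p => p ∈ nbr D y u) =
          (Set.toFinite {p | p ∈ nbr D y d \ M ∧ p ∈ nbr D y u}).toFinset by ext; simp]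
        omega
    have hs : (Cp d).ncard = 46 + n := by
      show (insert d (nbr D y d) ∪ D2 d).ncard = _
      rw [Set.ncard_union_eq ?_ (Set.toFinite _) (Set.toFinite _),
        Set.ncard_insert_of_notMem hirr (Set.toFinite _), h45 hd]
      rw [Set.disjoint_left]
      rintro z (rfl | hz) hz2
      · exact hz2.2.1 (Commute.refl _)
      · exact hz2.2.1 hz.1.2.2
    exact ⟨n, μ, hdouble, hμle, hs⟩
  have hbound : T.ncard ≤ 5 * (45 + 9) := by
    have := bound S hy3 hy1 hd₀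
    rwa [hk45] at this
  have hself : ∀ {d : G}, d ∈ Cp d := fun {d} => Or.inl (Or.inl rfl)
  have hstab : ∀ {d w : G}, d ∈ T → w ∈ Cp d → d * w * d ∈ Cp d := fun {d w} hd hw => by
    rcases hw with (rfl | hw) | hw
    · rw [mul_self hT.1 hd, one_mul]; exact hself
    · rw [conj_fix_of_commute hT.1 hd hw.1.2.2]; exact Or.inl (Or.inr hw)
    · obtain ⟨u, hu1, hu2⟩ := hw.2.2
      have hu' : ∀ {p : G}, u ∈ nbr D y p → d * u * d ∈ nbr D y (d * p * d) := fun h => by
        have := (nbr_conj S.hD hd.2).mpr h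
        rwa [inv_eq S.hD.1 hd.1] at this
      rw [conj_fix_of_commute hT.1 hd hu1.1.2.2] at hu'
      exact hclose hd (Or.inl (Or.inr hu1)) (mem_nbr_symm (hT.2 d hd w hw.1) (hu' hu2))
  have hall : T ⊆ Cp d₀ := by
    intro z hz
    by_contra hn
    set d := d₀
    have hd : d ∈ T := hd₀
    have hnc : ¬ Commute d z := fun hc => hn (by
      by_cases h : z = d
      · exact Or.inl (Or.inl h)
      · exact Or.inl (Or.inr ⟨⟨hz.1, h, hc⟩, hz.2⟩))
    set x := d * z * d
    have hx : x ∈ T := hT.2 d hd z hz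
    have hx1 : x ∉ Cp d := fun h => hn (by
      have := hstab hd h
      rwa [conj_self_inv hT.1 hd] at this)
    have hx2 : x ∉ Cp z := fun h => hn (hCpsymm hz (by
      have := hstab hz h
      rwa [show z * x * z = d by
        show z * (d * z * d) * z = d
        rw [braid hT.1 hd hz hnc, conj_self_inv hT.1 hz]] at this))
    have hdis : ∀ {p r : G}, p ∈ T → r ∈ T → r ∉ Cp p → Disjoint (Cp p) (Cp r) := fun {p r} hp hr h =>
      Set.disjoint_left.mpr fun w hw hw' => h (by rw [← hCp hp hw, hCp hr hw']; exact hself)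
    have h3 := Set.ncard_le_ncard (s := Cp d ∪ Cp z ∪ Cp x) (t := T) (fun w hw => by
      rcases hw with (h | h) | h
      exacts [hCpT hd h, hCpT hz h, hCpT hx h]) (Set.toFinite _)
    rw [Set.ncard_union_eq ((hdis hd hx hx1).union_left (hdis hz hx hx2)) (Set.toFinite _) (Set.toFinite _),
      Set.ncard_union_eq (hdis hd hz hn) (Set.toFinite _) (Set.toFinite _)] at h3
    have hbig : ∀ p ∈ T, 103 ≤ (Cp p).ncard := fun p hp => by
      obtain ⟨n, μ, h1, h2, hs'⟩ := hlocal p hp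
      have : 1440 ≤ n * 25 := h1 ▸ Nat.mul_le_mul_left n h2
      omega
    have := hbig d hd
    have := hbig z hz
    have := hbig x hx
    omega
  obtain ⟨n, μ, h1, h2, hs'⟩ := hlocal d₀ hd₀
  have hTn : T.ncard = 46 + n := by
    rw [← hs']
    exact congrArg Set.ncard (Set.Subset.antisymm hall fun w hw => hCpT hd₀ hw)
  have h3 := burnside_three hy (U := D) fun u hu => S.hD.2.1 y u hu
  rw [ncard_class S, show pts D y = T from rfl, hTn] at h3
  interval_cases μ <;> omega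

end Cfsg.Agent.Lib.FischerMTypes.Threes
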