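import Mathlib
import Cfsg.Agent.Lib.FischerMTypes.Threes.Sylow
import Cfsg.Agent.Lib.FischerMTypes.Threes.Sizes
import Cfsg.Agent.Lib.FischerMTypes.Thirteen.Final

/-!
Type M(22): orbit counting over the group of order 27 gives an element of order three without fixed
transpositions and shows that such elements form one class up to inversion.
-/

set_option autoImplicit false
set_option linter.style.haveILetI false
set_option linter.unusedSectionVars false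

namespace Cfsg.Agent.Lib.FischerMTypes.Threes

open Cfsg.Agent.Lib.FischerMTypes.Basic Cfsg.Agent.Lib.FischerMTypes.Primitive
  Cfsg.Agent.Lib.FischerMTypes.Aut22 Cfsg.Agent.Lib.FischerMTypes.Thirteen
  Cfsg.Agent.Lib.FischerMTypes.TraceSize
open Cfsg.Agent.Lib.FischerMTypes.TraceCounts (Sys)

variable {G : Type*} [Group G] [Finite G] {D : Set G}
variable {F : Type} [Field F] [Fintype F]

theorem pw_add {x : G} (hx : x ^ 3 = 1) (a b : Fin 3) : x ^ (a : ℕ) * x ^ (b : ℕ) = x ^ ((a + b : Fin 3) : ℕ) := by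
  rw [← pow_add, Fin.val_add]
  exact pow_eq_pow_mod _ hx

/-- twice -/
abbrev dbl (x : Fin 3 × Fin 3 × Fin 3) : Fin 3 × Fin 3 × Fin 3 := (x.1 + x.1, x.2.1 + x.2.1, x.2.2 + x.2.2)

theorem sum_pairs (n : Fin 3 × Fin 3 × Fin 3 → ℕ) (hn : ∀ x, n (dbl x) = n x) :
    ∑ x, n x = n (0, 0, 0) + 2 * (n (0, 0, 1) + (n (1, 0, 0) + n (1, 0, 1) + n (1, 0, 2)) +
      (n (0, 1, 0) + n (0, 1, 1) + n (0, 1, 2)) + (n (1, 1, 0) + n (2, 1, 0)) +
      (n (1, 1, 1) + n (1, 1, 2) + n (2, 1, 1) + n (2, 1, 2))) := by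
  have e1 : n (0, 0, 2) = n (0, 0, 1) := hn (0, 0, 1)
  have e2 : n (2, 0, 0) = n (1, 0, 0) := hn (1, 0, 0)
  have e3 : n (2, 0, 2) = n (1, 0, 1) := hn (1, 0, 1)
  have e4 : n (2, 0, 1) = n (1, 0, 2) := hn (1, 0, 2)
  have e5 : n (0, 2, 0) = n (0, 1, 0) := hn (0, 1, 0)
  have e6 : n (0, 2, 2) = n (0, 1, 1) := hn (0, 1, 1)
  have e7 : n (0, 2, 1) = n (0, 1, 2) := hn (0, 1, 2)
  have e8 : n (2, 2, 0) = n (1, 1, 0) := hn (1, 1, 0)
  have e9 : n (1, 2, 0) = n (2, 1, 0) := hn (2, 1, 0)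
  have e10 : n (2, 2, 2) = n (1, 1, 1) := hn (1, 1, 1)
  have e11 : n (2, 2, 1) = n (1, 1, 2) := hn (1, 1, 2)
  have e12 : n (1, 2, 2) = n (2, 1, 1) := hn (2, 1, 1)
  have e13 : n (1, 2, 1) = n (2, 1, 2) := hn (2, 1, 2)
  simp only [Fintype.sum_prod_type, Fin.sum_univ_three]
  omega

variable {v : Fin 6 → G} {P : Subgroup G} {s s' z e : G}

namespace Grid

variable (g : Grid D v P s s' z e)

include g in
theorem zero : el s s' z (0, 0, 0) = 1 := by simp [el]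

include g in
theorem add (x y : Fin 3 × Fin 3 × Fin 3) :
    el s s' z x * el s s' z y = el s s' z (x.1 + y.1, x.2.1 + y.2.1, x.2.2 + y.2.2) := by
  simp only [el, ← pw_add g.s3, ← pw_add g.s'3, ← pw_add g.z3]
  have c1 : Commute (z ^ (x.2.2 : ℕ)) (s ^ (y.1 : ℕ) * s' ^ (y.2.1 : ℕ)) :=
    ((g.csz.symm.pow_pow _ _).mul_right (g.cs'z.symm.pow_pow _ _))
  have c2 : Commute (s' ^ (x.2.1 : ℕ)) (s ^ (y.1 : ℕ)) := g.css'.symm.pow_pow _ _
  calc s ^ (x.1 : ℕ) * s' ^ (x.2.1 : ℕ) * z ^ (x.2.2 : ℕ) * (s ^ (y.1 : ℕ) * s' ^ (y.2.1 : ℕ) * z ^ (y.2.2 : ℕ))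
      = s ^ (x.1 : ℕ) * s' ^ (x.2.1 : ℕ) * (z ^ (x.2.2 : ℕ) * (s ^ (y.1 : ℕ) * s' ^ (y.2.1 : ℕ))) * z ^ (y.2.2 : ℕ) := by
        simp only [mul_assoc]
    _ = s ^ (x.1 : ℕ) * (s' ^ (x.2.1 : ℕ) * s ^ (y.1 : ℕ)) * s' ^ (y.2.1 : ℕ) * (z ^ (x.2.2 : ℕ) * z ^ (y.2.2 : ℕ)) := by
        rw [c1.eq]; simp only [mul_assoc]
    _ = _ := by rw [c2.eq]; simp only [mul_assoc]

include g in
theorem sq (x : Fin 3 × Fin 3 × Fin 3) : el s s' z x ^ 2 = el s s' z (dbl x) := by rw [pow_two, g.add]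

include g in
theorem cube (x : Fin 3 × Fin 3 × Fin 3) : el s s' z x ^ 3 = 1 := by
  rw [pow_succ, g.sq, g.add]
  have h : ∀ a : Fin 3, a + a + a = 0 := by decide
  simp only [h]
  exact g.zero

include g in
theorem ne_one {x : Fin 3 × Fin 3 × Fin 3} (hx : x ≠ (0, 0, 0)) : el s s' z x ≠ 1 := fun h =>
  hx (g.inj (h.trans g.zero.symm))

include g in
theorem order {x : Fin 3 × Fin 3 × Fin 3} (hx : x ≠ (0, 0, 0)) : orderOf (el s s' z x) = 3 := by
  have : Fact (Nat.Prime 3) := ⟨Nat.prime_three⟩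
  exact orderOf_eq_prime (g.cube x) (g.ne_one hx)

include g in
theorem fix (hv : Hex D v) (x : Fin 3 × Fin 3 × Fin 3) (k : Fin 6) :
    Commute (el s s' z x) (v k) ↔ (k < 3 ∧ x.2.1 = 0) ∨ (¬ k < 3 ∧ x.1 = 0) :=
  ((g.acts x).fix hv.inj k).trans (cyc_fix _ _ k)

include g in
theorem pts_dbl (U : Set G) (x : Fin 3 × Fin 3 × Fin 3) : pts U (el s s' z (dbl x)) = pts U (el s s' z x) := by
  rw [← g.sq]; exact pts_sq (g.cube x) U

include g in
theorem comm_tp (hv : Hex D v) (x : Fin 3 × Fin 3 × Fin 3) : Commute (el s s' z x) (tp v) :=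
  commute_tp_of_acts hv (g.acts x)

include g in
theorem comm_z (x : Fin 3 × Fin 3 × Fin 3) : Commute z (el s s' z x) :=
  ((g.csz.symm.pow_right _).mul_right (g.cs'z.symm.pow_right _)).mul_right ((Commute.refl z).pow_right _)

include g in
theorem fix_e (a b : Fin 3) : Commute (el s s' z (a, b, 0)) e := by
  show Commute (s ^ (a : ℕ) * s' ^ (b : ℕ) * z ^ ((0 : Fin 3) : ℕ)) e
  simpa using (g.cse.pow_left _).mul_left (g.cs'e.pow_left _)

end Grid

variable (S : Sys D F)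

include S in
theorem second_tri (hv : Hex D v) : Tri D (v 3) (v 4) (v 5) ∧
    six D (v 3) (v 4) (v 5) = six D (v 0) (v 1) (v 2) ∧ rest D (v 3) (v 4) (v 5) = far D v := by
  have h : Tri D (v 3) (v 4) (v 5) := ⟨(hv.mem 3).1.1, (hv.mem 4).1.1, (hv.mem 5).1.1, hv.inj.ne (by decide),
    hv.inj.ne (by decide), hv.inj.ne (by decide), (hv.mem 3).2 _ (hv.mem 4).1, (hv.mem 3).2 _ (hv.mem 5).1,
    (hv.mem 4).2 _ (hv.mem 5).1⟩
  have h6 : six D (v 3) (v 4) (v 5) = six D (v 0) (v 1) (v 2) :=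
    six_eq S hv.tri (hv.mem 3) (hv.mem 4) (hv.mem 5) h.nab h.nac h.nbc
  refine ⟨h, h6, ?_⟩
  show cl3 D (v 3) (v 4) (v 5) \ six D (v 3) (v 4) (v 5) = cl3 D (v 0) (v 1) (v 2) \ six D (v 0) (v 1) (v 2)
  rw [h6, ← tfix_prod S h, ← tfix_prod S hv.tri, hv.prod]

include S in
/-- the values of the axis elements around the six -/
theorem axis_value (hv : Hex D v) (g : Grid D v P s s' z e) {x : Fin 3 × Fin 3 × Fin 3}
    (hx : (x.1 ≠ 0 ∧ x.2.1 = 0) ∨ (x.1 = 0 ∧ x.2.1 ≠ 0)) :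
    ∃ d ∈ fixd D (el s s' z x), ((nbr D (el s s' z x) d).ncard = 18 ∧ (pts (far D v) (el s s' z x)).ncard = 0) ∨
      ((nbr D (el s s' z x) d).ncard = 9 ∧ (pts (far D v) (el s s' z x)).ncard = 3) := by
  have h1 : el s s' z x ≠ 1 := g.ne_one (fun h => by rw [h] at hx; simp at hx)
  rcases hx with ⟨hi, hj⟩ | ⟨hi, hj⟩
  · have hf : ∀ k, k < 3 → Commute (el s s' z x) (v k) := fun k hk => (g.fix hv x k).mpr (Or.inl ⟨hk, hj⟩)
    refine ⟨v 0, ⟨hv.tri.ma, hf 0 (by decide)⟩, axis S hv.tri (g.cube x) h1 (hf 0 (by decide)) (hf 1 (by decide))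
      (hf 2 (by decide)) fun y hy hc => ?_⟩
    rw [hv.range] at hy
    obtain ⟨k, rfl⟩ := hy
    rcases (g.fix hv x k).mp hc with ⟨hk, -⟩ | ⟨-, hk⟩
    · exact ((lt_three k).mp hk).imp (congrArg v) (Or.imp (congrArg v) (congrArg v))
    · exact absurd hk hi
  · obtain ⟨h, h6, hr⟩ := second_tri S hv
    have hf : ∀ k, ¬ k < 3 → Commute (el s s' z x) (v k) := fun k hk => (g.fix hv x k).mpr (Or.inr ⟨hk, hi⟩)
    rw [← hr]
    refine ⟨v 3, ⟨h.ma, hf 3 (by decide)⟩, axis S h (g.cube x) h1 (hf 3 (by decide)) (hf 4 (by decide))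
      (hf 5 (by decide)) fun y hy hc => ?_⟩
    rw [h6, hv.range] at hy
    obtain ⟨k, rfl⟩ := hy
    rcases (g.fix hv x k).mp hc with ⟨-, hk⟩ | ⟨hk, -⟩
    · exact absurd hk hj
    · have : ∀ k : Fin 6, ¬ k < 3 → k = 3 ∨ k = 4 ∨ k = 5 := by decide
      exact (this k hk).imp (congrArg v) (Or.imp (congrArg v) (congrArg v))

include S in
/-- the values of the others -/
theorem diag_value (hv : Hex D v) (g : Grid D v P s s' z e) {a m : Fin 3} (ha : a ≠ 0) :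
    (pts (far D v) (el s s' z (a, 1, m))).ncard = 0 ∨
      ((pts (far D v) (el s s' z (a, 1, m))).ncard = 12 ∧
        ∃ d ∈ fixd D (el s s' z (a, 1, m)), (nbr D (el s s' z (a, 1, m)) d).ncard = 9) := by
  set w := el s s' z (a, 1, m)
  rcases (pts (far D v) w).eq_empty_or_nonempty with h | ⟨d, hd, hwd⟩
  · exact Or.inl (by rw [h, Set.ncard_empty])
  obtain ⟨c0, c1⟩ := cyc_one a
  have wa : w * v 0 * w⁻¹ = v 1 := by rw [g.acts (a, 1, m) 0, c0]
  have wb : w * v 1 * w⁻¹ = v 2 := by rw [g.acts (a, 1, m) 1, c1]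
  obtain ⟨h9, h4⟩ := diag S hv.tri (g.cube _) wa wb (fun y hy hc => by
    rw [hv.range] at hy
    obtain ⟨k, rfl⟩ := hy
    rcases (g.fix hv (a, 1, m) k).mp hc with ⟨-, hk⟩ | ⟨-, hk⟩
    · exact absurd (show (1 : Fin 3) = 0 from hk) (by decide)
    · exact ha hk) hd hwd
  have hz6 : ∀ y ∈ six D (v 0) (v 1) (v 2), Commute z y := fun y hy => by
    rw [hv.range] at hy
    obtain ⟨k, rfl⟩ := hy
    have := (g.fix hv (0, 0, 1) k).mpr (by by_cases hk : k < 3 <;> simp [hk])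
    simpa [el] using this
  refine Or.inr ⟨?_, d, ⟨hd.1.1, hwd⟩, h9⟩
  rw [three_pieces S hv.tri g.zord hz6 g.zfree (g.comm_z _) hd, h4]

include S in
/-- orbit counting over the elements fixing one of the triples -/
theorem side_count (hv : Hex D v) (g : Grid D v P s s' z e) {U : Set G}
    (hU : ∀ x, ∀ u ∈ U, el s s' z x * u * (el s s' z x)⁻¹ ∈ U) (b : Bool) :
    9 ∣ U.ncard + 2 * ((pts U (el s s' z (0, 0, 1))).ncard +
      ((pts U (el s s' z (if b then (1, 0, 0) else (0, 1, 0)))).ncard +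
       (pts U (el s s' z (if b then (1, 0, 1) else (0, 1, 1)))).ncard +
       (pts U (el s s' z (if b then (1, 0, 2) else (0, 1, 2)))).ncard)) := by
  classical
  let ι : Fin 3 × Fin 3 → Fin 3 × Fin 3 × Fin 3 := fun p => if b then (p.1, 0, p.2) else (0, p.1, p.2)
  have hι : Function.Injective ι := fun p q h => by
    cases b <;> simp [ι, Prod.ext_iff] at h <;> exact Prod.ext h.1 h.2
  have h := burnside (f := fun p => el s s' z (ι p)) (g.inj.comp hι)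
    (H := P ⊓ Subgroup.centralizer {v (if b then 0 else 3)}) (fun y => ⟨fun hy => ?_, fun ⟨p, hp⟩ => ?_⟩)
    (U := U) fun p => hU _
  · rw [Fintype.card_prod, Fintype.card_fin] at h
    have e1 : ∀ p : Fin 3 × Fin 3, (pts U (el s s' z (ι (p.1 + p.1, p.2 + p.2)))).ncard =
        (pts U (el s s' z (ι p))).ncard := fun p => by
      rw [show ι (p.1 + p.1, p.2 + p.2) = dbl (ι p) by cases b <;> simp [ι, dbl], g.pts_dbl]
    have a1 := e1 (0, 1)
    have a2 := e1 (1, 0)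
    have a3 := e1 (1, 1)
    have a4 := e1 (1, 2)
    simp only [Fintype.sum_prod_type, Fin.sum_univ_three] at h
    have h0 : (pts U (el s s' z (ι (0, 0)))).ncard = U.ncard := by
      rw [show ι (0, 0) = (0, 0, 0) by cases b <;> simp [ι], g.zero, pts_one]
    cases b <;> simp only [ι, Bool.false_eq_true, if_false, if_true, Fin.reduceAdd] at h h0 a1 a2 a3 a4 ⊢ <;>
      omega
  · obtain ⟨hyP, hyc⟩ := Subgroup.mem_inf.mp hy
    obtain ⟨x, rfl⟩ := (g.mem y).mp hyP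
    have hc := (g.fix hv x _).mp (Subgroup.mem_centralizer_singleton_iff.mp hyc)
    cases b <;> simp only [ι, Bool.false_eq_true, if_false, if_true] at hc ⊢
    · rcases hc with ⟨hk, -⟩ | ⟨-, hj⟩
      · exact absurd hk (by decide)
      · exact ⟨(x.2.1, x.2.2), by rw [← hj]⟩
    · rcases hc with ⟨-, hj⟩ | ⟨hk, -⟩
      · exact ⟨(x.1, x.2.2), by rw [← hj]⟩
      · exact absurd (by decide) hk
  · refine Subgroup.mem_inf.mpr ⟨(g.mem y).mpr ⟨_, hp⟩, Subgroup.mem_centralizer_singleton_iff.mpr ?_⟩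
    rw [← hp]
    refine ((g.fix hv _ _).mpr ?_).eq
    cases b
    · exact Or.inr ⟨by decide, by simp [ι]⟩
    · exact Or.inl ⟨by decide, by simp [ι]⟩

include S in
/-- orbit counting over all 27 -/
theorem full_count (g : Grid D v P s s' z e) {U : Set G}
    (hU : ∀ x, ∀ u ∈ U, el s s' z x * u * (el s s' z x)⁻¹ ∈ U) :
    27 ∣ ∑ x, (pts U (el s s' z x)).ncard := by
  have h := burnside g.inj g.mem hU
  rwa [Fintype.card_prod, Fintype.card_prod, Fintype.card_fin] at h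

set_option maxHeartbeats 1000000 in
include S in
/-- all values around the six -/
theorem far_values (hv : Hex D v) (g : Grid D v P s s' z e) :
    (pts (far D v) (el s s' z (1, 0, 0))).ncard = 3 ∧ (pts (far D v) (el s s' z (0, 1, 0))).ncard = 3 ∧
      (∀ m, m ≠ 0 → (pts (far D v) (el s s' z (1, 0, m))).ncard = 0 ∧
        (pts (far D v) (el s s' z (0, 1, m))).ncard = 0) ∧
      (∀ a, a ≠ 0 → (pts (far D v) (el s s' z (a, 1, 0))).ncard = 12) ∧
      ∀ a m, a ≠ 0 → m ≠ 0 → (pts (far D v) (el s s' z (a, 1, m))).ncard = 0 := by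
  classical
  have hU : ∀ x, ∀ u ∈ far D v, el s s' z x * u * (el s s' z x)⁻¹ ∈ far D v := fun x u hu =>
    conj_far S hv (g.comm_tp hv x).symm hu
  have hcard : (far D v).ncard = 48 := ncard_rest S hv.tri
  have hpos : ∀ a b, 0 < (pts (far D v) (el s s' z (a, b, 0))).ncard := fun a b =>
    (Set.ncard_pos (Set.toFinite _)).mpr ⟨e, g.efar, g.fix_e a b⟩
  have hax : ∀ {x : Fin 3 × Fin 3 × Fin 3}, ((x.1 ≠ 0 ∧ x.2.1 = 0) ∨ (x.1 = 0 ∧ x.2.1 ≠ 0)) →
      (pts (far D v) (el s s' z x)).ncard = 0 ∨ (pts (far D v) (el s s' z x)).ncard = 3 := fun hx => by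
    obtain ⟨d, -, h | h⟩ := axis_value S hv g hx
    exacts [Or.inl h.2, Or.inr h.2]
  have hz0 : (pts (far D v) (el s s' z (0, 0, 1))).ncard = 0 := by
    rw [show el s s' z (0, 0, 1) = z by simp [el], Set.ncard_eq_zero]
    exact Set.eq_empty_iff_forall_notMem.mpr fun u hu => g.zfree u hu.1 hu.2
  have a0 : (pts (far D v) (el s s' z (1, 0, 0))).ncard = 3 :=
    (hax (Or.inl ⟨by decide, rfl⟩)).resolve_left (hpos _ _).ne'
  have b0 : (pts (far D v) (el s s' z (0, 1, 0))).ncard = 3 :=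
    (hax (Or.inr ⟨rfl, show (1 : Fin 3) ≠ 0 by decide⟩)).resolve_left (hpos _ _).ne'
  have hA := side_count S hv g hU true
  have hB := side_count S hv g hU false
  simp only [if_true, Bool.false_eq_true, if_false, hcard, hz0, a0, b0] at hA hB
  have a1 := hax (x := (1, 0, 1)) (Or.inl ⟨show (1 : Fin 3) ≠ 0 by decide, rfl⟩)
  have a2 := hax (x := (1, 0, 2)) (Or.inl ⟨show (1 : Fin 3) ≠ 0 by decide, rfl⟩)
  have b1 := hax (x := (0, 1, 1)) (Or.inr ⟨rfl, show (1 : Fin 3) ≠ 0 by decide⟩)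
  have b2 := hax (x := (0, 1, 2)) (Or.inr ⟨rfl, show (1 : Fin 3) ≠ 0 by decide⟩)
  have hd : ∀ a, a ≠ 0 → ∀ m, (pts (far D v) (el s s' z (a, 1, m))).ncard = 0 ∨
      (pts (far D v) (el s s' z (a, 1, m))).ncard = 12 := fun a ha m =>
    (diag_value S hv g ha).imp id And.left
  have d10 := (hd 1 (by decide) 0).resolve_left (hpos _ _).ne'
  have d20 := (hd 2 (by decide) 0).resolve_left (hpos _ _).ne'
  have d11 := hd 1 (by decide) 1
  have d12 := hd 1 (by decide) 2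
  have d21 := hd 2 (by decide) 1
  have d22 := hd 2 (by decide) 2
  have hP := full_count S g hU
  rw [sum_pairs (fun x => (pts (far D v) (el s s' z x)).ncard) fun x => by rw [g.pts_dbl]] at hP
  simp only [g.zero, pts_one, hcard, hz0, a0, b0, d10, d20] at hP
  refine ⟨a0, b0, fun m hm => ?_, fun a ha => ?_, fun a m ha hm => ?_⟩
  · fin_cases m
    · exact absurd rfl hm
    · exact ⟨by show (pts (far D v) (el s s' z (1, 0, 1))).ncard = 0; omega,
        by show (pts (far D v) (el s s' z (0, 1, 1))).ncard = 0; omega⟩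
    · exact ⟨by show (pts (far D v) (el s s' z (1, 0, 2))).ncard = 0; omega,
        by show (pts (far D v) (el s s' z (0, 1, 2))).ncard = 0; omega⟩
  · fin_cases a
    · exact absurd rfl ha
    · exact d10
    · exact d20
  · fin_cases a <;> fin_cases m
    all_goals first | exact absurd rfl ha | exact absurd rfl hm | skip
    · show (pts (far D v) (el s s' z (1, 1, 1))).ncard = 0; omega
    · show (pts (far D v) (el s s' z (1, 1, 2))).ncard = 0; omega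
    · show (pts (far D v) (el s s' z (2, 1, 1))).ncard = 0; omega
    · show (pts (far D v) (el s s' z (2, 1, 2))).ncard = 0; omega

include S in
/-- the exchange of the two axes inside the normaliser -/
theorem exists_swap (hv : Hex D v) (hP : Syl D v P) (g : Grid D v P s s' z e) :
    ∃ h δ, Commute (tp v) h ∧ δ ≠ (0 : Fin 3) ∧ ∀ x : Fin 3 × Fin 3 × Fin 3,
      h * el s s' z x * h⁻¹ = el s s' z (x.2.1, -x.1, δ * x.2.2) := by
  classical
  have : Fact (Nat.Prime 3) := ⟨Nat.prime_three⟩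
  obtain ⟨g1, -, hg1⟩ := real_three S hv (i := 0) (j := 3) (k := 1) (by decide) (by decide) (by decide)
  obtain ⟨g2, -, hg2⟩ := real_three S hv (i := 3) (j := 1) (k := 5) (by decide) (by decide) (by decide)
  obtain ⟨g3, -, hg3⟩ := real_three S hv (i := 2) (j := 1) (k := 4) (by decide) (by decide) (by decide)
  set k := g1 * g2 * g3
  have hk : Acts v k flip6 := (hg1.mul hg2).mul hg3
  have hkt : Commute k (tp v) := by
    refine mul_inv_eq_iff_eq_mul.mp ?_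
    show k * (v 0 * (v 1 * v 2)) * k⁻¹ = tp v
    obtain ⟨e0, e1, e2⟩ := flip_values
    rw [show k * (v 0 * (v 1 * v 2)) * k⁻¹ = k * v 0 * k⁻¹ * (k * v 1 * k⁻¹ * (k * v 2 * k⁻¹)) by group,
      hk, hk, hk, e0, e1, e2]
    exact hv.prod
  have hPn : P ≤ nine v := fun u hu => hP.acts u hu
  have hfac : (Nat.card (nine v)).factorization 3 = 3 := factor_three (hP.card ▸ Subgroup.card_dvd_of_le hPn)
    (card_cent S hv ▸ Subgroup.card_dvd_of_le fun u hu => by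
      obtain ⟨i, j, h⟩ := hu
      exact Subgroup.mem_centralizer_singleton_iff.mpr (commute_tp_of_acts hv h).eq)
  obtain ⟨m, hm, hm'⟩ := conj_into (p := 3) hPn (by rw [hP.card, hfac]; rfl)
    (R := P.map (MulAut.conj k).toMonoidHom) (by
      rintro _ ⟨u, hu, rfl⟩
      obtain ⟨i, j, h⟩ := hP.acts u hu
      exact ⟨j, -i, flip_cyc i j ▸ (hk.mul h).mul hk.inv⟩)
    (IsPGroup.map (IsPGroup.iff_card.mpr ⟨3, hP.card⟩) _)
  obtain ⟨i0, j0, hm0⟩ := hm
  set h := m * k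
  have hht : Commute (tp v) h := ((commute_tp_of_acts hv hm0).mul_left hkt).symm
  have hmem : ∀ x, ∃ y, el s s' z y = h * el s s' z x * h⁻¹ ∧ y.1 = x.2.1 ∧ y.2.1 = -x.1 := fun x => by
    have h1 := hm' (k * el s s' z x * k⁻¹) ⟨_, (g.mem _).mpr ⟨x, rfl⟩, rfl⟩
    rw [show m * (k * el s s' z x * k⁻¹) * m⁻¹ = h * el s s' z x * h⁻¹ by simp only [h]; group] at h1
    obtain ⟨y, hy⟩ := (g.mem _).mp h1
    have h2 := ((hm0.mul hk).mul (g.acts x)).mul (hm0.mul hk).inv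
    rw [← hy] at h2
    have h3 := (g.acts y).unique hv.inj h2
    rw [show cyc i0 j0 * flip6 * cyc x.1 x.2.1 * (cyc i0 j0 * flip6)⁻¹ =
      cyc i0 j0 * (flip6 * cyc x.1 x.2.1 * flip6⁻¹) * (cyc i0 j0)⁻¹ by group, flip_cyc, cyc_inv, cyc_add,
      cyc_add] at h3
    obtain ⟨e1, e2⟩ := cyc_inj _ _ _ _ h3
    exact ⟨y, hy, e1.trans (by abel), e2.trans (by abel)⟩
  have hpts : ∀ u, (pts (far D v) (h * u * h⁻¹)).ncard = (pts (far D v) u).ncard := fun u => by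
    rw [show pts (far D v) (h * u * h⁻¹) = (fun w => h * w * h⁻¹) '' pts (far D v) u from Set.ext fun w => ⟨fun hw =>
      ⟨h⁻¹ * w * h, ⟨by simpa using conj_far S hv hht.inv_right hw.1, (commute_conj_iff h _ _).mp
        (by simpa [mul_assoc] using hw.2)⟩, by group⟩, fun ⟨u', hu', e'⟩ => e' ▸
        ⟨conj_far S hv hht hu'.1, (commute_conj_iff h _ _).mpr hu'.2⟩⟩,
      Set.ncard_image_of_injective _ fun p q hpq => by simpa using hpq]
  obtain ⟨a0, b0, hzero, -, -⟩ := far_values S hv g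
  obtain ⟨⟨y1, y2, y3⟩, hy, e1, e2⟩ := hmem (1, 0, 0)
  obtain ⟨⟨w1, w2, w3⟩, hw, f1, f2⟩ := hmem (0, 1, 0)
  obtain ⟨⟨q1, q2, q3⟩, hq, r1, r2⟩ := hmem (0, 0, 1)
  simp only at e1 e2 f1 f2 r1 r2
  subst e1 e2 f1 f2 r1 r2
  have hdbl : ∀ y3 : Fin 3, ((0 : Fin 3), -(1 : Fin 3), y3) = dbl (0, 1, -y3) := by decide
  have hy3 : y3 = 0 := by
    by_contra hne
    have := hpts (el s s' z (1, 0, 0))
    rw [← hy, a0, hdbl y3, g.pts_dbl, (hzero (-y3) (by simpa using hne)).2] at this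
    norm_num at this
  have hw3 : w3 = 0 := by
    by_contra hne
    have := hpts (el s s' z (0, 1, 0))
    rw [← hw, b0, show ((1 : Fin 3), -(0 : Fin 3), w3) = (1, 0, w3) by simp, (hzero w3 hne).1] at this
    norm_num at this
  subst hy3 hw3
  refine ⟨h, q3, hht, fun hq3 => ?_, fun x => ?_⟩
  · subst hq3
    rw [show ((0 : Fin 3), -(0 : Fin 3), (0 : Fin 3)) = (0, 0, 0) by simp, g.zero, eq_comm,
      conj_eq_one_iff] at hq
    exact g.ne_one (by decide) hq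
  · have hs : h * s * h⁻¹ = s' ^ 2 := by
      rw [show s = el s s' z (1, 0, 0) by simp [el], ← hy]
      simp [el]
    have hs' : h * s' * h⁻¹ = s := by
      rw [show s' = el s s' z (0, 1, 0) by simp [el], ← hw]
      simp [el]
    have hz' : h * z * h⁻¹ = z ^ (q3 : ℕ) := by
      rw [show z = el s s' z (0, 0, 1) by simp [el], ← hq]
      simp [el]
    obtain ⟨a, b, c⟩ := x
    show h * (s ^ (a : ℕ) * s' ^ (b : ℕ) * z ^ (c : ℕ)) * h⁻¹ = _
    rw [show h * (s ^ (a : ℕ) * s' ^ (b : ℕ) * z ^ (c : ℕ)) * h⁻¹ = h * s ^ (a : ℕ) * h⁻¹ *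
      (h * s' ^ (b : ℕ) * h⁻¹) * (h * z ^ (c : ℕ) * h⁻¹) by group, ← conj_pow, ← conj_pow, ← conj_pow, hs, hs', hz',
      ← pow_mul, ← pow_mul]
    show _ = s ^ (b : ℕ) * s' ^ ((-a : Fin 3) : ℕ) * z ^ ((q3 * c : Fin 3) : ℕ)
    rw [((g.css'.symm.pow_pow _ _).eq), Fin.val_mul, ← pow_eq_pow_mod _ g.z3]
    congr 2
    rw [pow_eq_pow_mod _ g.s'3]
    congr 1
    revert a; decide

include S in
theorem nine_same {y y' d d' : G} (hy3 : y ^ 3 = 1) (hy : y ≠ 1) (hy'3 : y' ^ 3 = 1) (hy' : y' ≠ 1)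
    (hd : d ∈ fixd D y) (hd' : d' ∈ fixd D y') (h : (nbr D y d).ncard = (nbr D y' d').ncard) :
    (fixd D y).ncard = (fixd D y').ncard := by
  obtain ⟨k, rfl⟩ := conj_of_count S hy3 hy hy'3 hy' hd hd' h
  exact (ncard_fixd_move S.hD k y).symm

/-- conjugate to a generator of the same subgroup -/
def Reach (a b : G) : Prop := ∃ k, k * a * k⁻¹ = b ∨ k * a * k⁻¹ = b ^ 2

theorem Reach.sq {a b : G} (hb : b ^ 3 = 1) (h : Reach a b) : Reach a (b ^ 2) := by
  obtain ⟨k, h | h⟩ := h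
  · exact ⟨k, Or.inr (by rw [← pow_mul, pow_eq_pow_mod _ hb, h, pow_one])⟩
  · exact ⟨k, Or.inl h⟩

theorem Reach.conj {a b : G} (u : G) (h : Reach a b) : Reach a (u * b * u⁻¹) := by
  obtain ⟨k, h | h⟩ := h
  · exact ⟨u * k, Or.inl (by rw [← h]; group)⟩
  · exact ⟨u * k, Or.inr (by rw [conj_pow, ← h]; group)⟩

include S in
/-- elements without fixed transpositions: existence and uniqueness -/
theorem free_class : ∃ y, orderOf y = 3 ∧ fixd D y = ∅ ∧
    ∀ y', orderOf y' = 3 → fixd D y' = ∅ → Reach y y' := by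
  classical
  have : Fact (Nat.Prime 3) := ⟨Nat.prime_three⟩
  obtain ⟨a0, b0, c0, h0, -⟩ := triangle_model S
  obtain ⟨v, hv, -, -, -⟩ := exists_hex S h0
  obtain ⟨P, hP⟩ := exists_syl S hv
  obtain ⟨s, s', z, e, g⟩ := exists_grid S hv hP
  obtain ⟨h, δ, -, hδ, hh⟩ := exists_swap S hv hP g
  obtain ⟨va, vb, hzero, hW, hoff⟩ := far_values S hv g
  set E := el s s' z
  set f : Fin 3 × Fin 3 × Fin 3 → ℕ := fun x => (fixd D (E x)).ncard
  have hU : ∀ x, ∀ u ∈ D, E x * u * (E x)⁻¹ ∈ D := fun x u hu => S.hD.2.1 _ u hu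
  have hpf : ∀ x, (pts D (E x)).ncard = f x := fun x => rfl
  have hDc : D.ncard = 3510 := ncard_class S
  have hfz : f (0, 0, 1) = 126 := by
    show (fixd D (E (0, 0, 1))).ncard = 126
    rw [show E (0, 0, 1) = z by simp [E, el]]
    refine size_four S g.zord (d₀ := v 0) ⟨hv.tri.ma, ?_⟩ g.znbr
    have := (g.fix hv (0, 0, 1) 0).mpr (Or.inl ⟨by decide, rfl⟩)
    simpa [el] using this
  -- the axis elements
  have hnine : ∀ {x}, ((x.1 ≠ 0 ∧ x.2.1 = 0) ∨ (x.1 = 0 ∧ x.2.1 ≠ 0)) → (pts (far D v) (E x)).ncard = 3 →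
      ∃ d ∈ fixd D (E x), (nbr D (E x) d).ncard = 9 := fun {x} hx h3 => by
    obtain ⟨d, hd, h | h⟩ := axis_value S hv g hx
    · rw [h.2] at h3; norm_num at h3
    · exact ⟨d, hd, h.1⟩
  have height : ∀ {x}, ((x.1 ≠ 0 ∧ x.2.1 = 0) ∨ (x.1 = 0 ∧ x.2.1 ≠ 0)) → (pts (far D v) (E x)).ncard = 0 →
      27 ∣ f x := fun {x} hx h3 => by
    obtain ⟨d, hd, h | h⟩ := axis_value S hv g hx
    · exact (size_eighteen S (g.cube x) (g.ne_one (fun e => by rw [e] at hx; simp at hx)) hd h.1).1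
    · rw [h.2] at h3; norm_num at h3
  obtain ⟨d1, hd1, hn1⟩ := hnine (x := (1, 0, 0)) (Or.inl ⟨show (1 : Fin 3) ≠ 0 by decide, rfl⟩) va
  have hs1 := size_nine S (g.cube _) (g.ne_one (x := (1, 0, 0)) (by decide)) hd1 hn1
  have hA := side_count S hv g hU true
  simp only [if_true] at hA
  have hA' : 9 ∣ 3510 + 2 * (126 + (f (1, 0, 0) + f (1, 0, 1) + f (1, 0, 2))) := hDc ▸ hfz ▸ hA
  have a1 : 27 ∣ f (1, 0, 1) := height (Or.inl ⟨show (1 : Fin 3) ≠ 0 by decide, rfl⟩) (hzero 1 (by decide)).1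
  have a2 : 27 ∣ f (1, 0, 2) := height (Or.inl ⟨show (1 : Fin 3) ≠ 0 by decide, rfl⟩) (hzero 2 (by decide)).1
  have b1 : 27 ∣ f (0, 1, 1) := height (Or.inr ⟨rfl, show (1 : Fin 3) ≠ 0 by decide⟩) (hzero 1 (by decide)).2
  have b2 : 27 ∣ f (0, 1, 2) := height (Or.inr ⟨rfl, show (1 : Fin 3) ≠ 0 by decide⟩) (hzero 2 (by decide)).2
  have h36 : f (1, 0, 0) = 36 := by
    have h1 : f (1, 0, 0) % 24 = 12 ∧ f (1, 0, 0) ≤ 90 := hs1
    omega
  have hall36 : ∀ {x d}, x ≠ (0, 0, 0) → d ∈ fixd D (E x) → (nbr D (E x) d).ncard = 9 → f x = 36 :=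
    fun {x d} hx hd hn => (nine_same S (g.cube x) (g.ne_one hx) (g.cube _) (g.ne_one (x := (1, 0, 0)) (by decide))
      hd hd1 (hn.trans hn1.symm)).trans h36
  have f010 : f (0, 1, 0) = 36 := by
    obtain ⟨d, hd, hn⟩ := hnine (x := (0, 1, 0)) (Or.inr ⟨rfl, show (1 : Fin 3) ≠ 0 by decide⟩) vb
    exact hall36 (by decide) hd hn
  have fW : ∀ a, a ≠ 0 → f (a, 1, 0) = 36 := fun a ha => by
    rcases diag_value S hv g (m := 0) ha with h | ⟨-, d, hd, hn⟩
    · rw [hW a ha] at h; norm_num at h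
    · exact hall36 (fun e => absurd (congrArg (fun p => p.2.1) e) (show (1 : Fin 3) ≠ 0 by decide)) hd hn
  -- the eight
  have R0 : Reach (E (1, 1, 1)) (E (1, 1, 1)) := ⟨1, Or.inl (by group)⟩
  have Rd : ∀ {x}, Reach (E (1, 1, 1)) (E x) → Reach (E (1, 1, 1)) (E (dbl x)) := fun {x} r => by
    rw [show E (dbl x) = E x ^ 2 from (g.sq x).symm]; exact r.sq (g.cube x)
  have Rh : ∀ {x}, Reach (E (1, 1, 1)) (E x) → Reach (E (1, 1, 1)) (E (x.2.1, -x.1, δ * x.2.2)) := fun {x} r => by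
    rw [← hh]; exact r.conj h
  have hR : ∀ x : Fin 3 × Fin 3 × Fin 3, x.1 ≠ 0 → x.2.1 ≠ 0 → x.2.2 ≠ 0 → Reach (E (1, 1, 1)) (E x) := by
    have key : ∀ δ : Fin 3, δ ≠ 0 → ∀ x : Fin 3 × Fin 3 × Fin 3, x.1 ≠ 0 → x.2.1 ≠ 0 → x.2.2 ≠ 0 →
        let ψ : Fin 3 × Fin 3 × Fin 3 → Fin 3 × Fin 3 × Fin 3 := fun x => (x.2.1, -x.1, δ * x.2.2)
        x = (1, 1, 1) ∨ x = dbl (1, 1, 1) ∨ x = ψ (1, 1, 1) ∨ x = dbl (ψ (1, 1, 1)) ∨ x = ψ (ψ (1, 1, 1)) ∨
          x = dbl (ψ (ψ (1, 1, 1))) ∨ x = ψ (ψ (ψ (1, 1, 1))) ∨ x = dbl (ψ (ψ (ψ (1, 1, 1)))) := by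
      decide +kernel
    intro x h1 h2 h3
    rcases key δ hδ x h1 h2 h3 with e | e | e | e | e | e | e | e <;> rw [e]
    exacts [R0, Rd R0, Rh R0, Rd (Rh R0), Rh (Rh R0), Rd (Rh (Rh R0)), Rh (Rh (Rh R0)), Rd (Rh (Rh (Rh R0)))]
  have hfR : ∀ {u}, Reach (E (1, 1, 1)) u → u ^ 3 = 1 → (fixd D u).ncard = f (1, 1, 1) := by
    rintro u ⟨k, hk | hk⟩ h3
    · rw [← hk]; exact ncard_fixd_move S.hD k _
    · rw [show fixd D u = fixd D (u ^ 2) from (pts_sq h3 D).symm, ← hk]; exact ncard_fixd_move S.hD k _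
  have f8 : ∀ a m : Fin 3, a ≠ 0 → m ≠ 0 → f (a, 1, m) = f (1, 1, 1) := fun a m ha hm =>
    hfR (hR (a, 1, m) ha (show (1 : Fin 3) ≠ 0 by decide) hm) (g.cube _)
  have hr : f (1, 1, 1) = 0 ∨ f (1, 1, 1) = 36 ∨ f (1, 1, 1) = 126 := by
    rcases (fixd D (E (1, 1, 1))).eq_empty_or_nonempty with h | ⟨d, hd⟩
    · exact Or.inl (by show (fixd D (E (1, 1, 1))).ncard = 0; rw [h, Set.ncard_empty])
    rcases ncard_nbr_cases S (g.cube _) (g.ne_one (x := (1, 1, 1)) (by decide)) hd.1 hd.2 with hn | hn | hn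
    · exact Or.inr (Or.inr (size_four S (g.order (by decide)) hd hn))
    · exfalso
      have hodd : (fixd D (E (1, 1, 1))).ncard % 2 = 1 :=
        (size_eighteen S (g.cube _) (g.ne_one (x := (1, 1, 1)) (by decide)) hd hn).2
      have hc := g.comm_tp hv (1, 1, 1)
      have ht : orderOf (tp v) = 2 := InvolutionsM22.order_two S (m := 3) (by norm_num) le_rfl
        ⟨[v 0, v 1, v 2], by simp [hv.tri.nab, hv.tri.nac, hv.tri.nbc], rfl,
          by simp [hv.tri.ma, hv.tri.mb, hv.tri.mc],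
          by simp [hv.tri.cab, hv.tri.cab.symm, hv.tri.cac, hv.tri.cac.symm, hv.tri.cbc, hv.tri.cbc.symm], by simp⟩
      have h2 := burnside_two ht (U := fixd D (E (1, 1, 1))) fun u hu =>
        ⟨S.hD.2.1 _ u hu.1, (hc.mul_right hu.2).mul_right hc.inv_right⟩
      obtain ⟨u, hu, hut⟩ := Set.nonempty_of_ncard_ne_zero (s := pts (fixd D (E (1, 1, 1))) (tp v)) (by omega)
      have hu3 : u ∈ cl3 D (v 0) (v 1) (v 2) := tfix_tp S hv ▸ ⟨hu.1, hut⟩
      by_cases h6 : u ∈ six D (v 0) (v 1) (v 2)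
      · rw [hv.range] at h6
        obtain ⟨k, rfl⟩ := h6
        rcases (g.fix hv (1, 1, 1) k).mp hu.2 with ⟨-, hk⟩ | ⟨-, hk⟩ <;>
          exact absurd (show (1 : Fin 3) = 0 from hk) (by decide)
      · have h3 := hoff 1 1 (by decide) (by decide)
        rw [Set.ncard_eq_zero] at h3
        exact Set.eq_empty_iff_forall_notMem.mp h3 u ⟨⟨hu3, h6⟩, hu.2⟩
    · exact Or.inr (Or.inl (hall36 (by decide) hd hn))
  have hfull := full_count S g hU
  rw [sum_pairs (fun x => (pts D (E x)).ncard) fun x => by rw [g.pts_dbl]] at hfull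
  simp only [hpf, hfz, h36, f010, fW 1 (by decide), fW 2 (by decide), f8 1 2 (by decide) (by decide),
    f8 2 1 (by decide) (by decide), f8 2 2 (by decide) (by decide)] at hfull
  rw [show f (0, 0, 0) = 3510 by
    show (fixd D (E (0, 0, 0))).ncard = 3510
    rw [show E (0, 0, 0) = 1 from g.zero, ← hDc]; exact congrArg Set.ncard (pts_one D)] at hfull
  have hr0 : f (1, 1, 1) = 0 := by omega
  refine ⟨E (1, 1, 1), g.order (by decide), (Set.ncard_eq_zero (Set.toFinite _)).mp hr0, fun y hy hfree => ?_⟩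
  have hy3 : y ^ 3 = 1 := hy ▸ pow_orderOf_eq_one y
  have hfree' : ∀ d ∈ D, ¬ Commute y d := fun d hd hc =>
    Set.eq_empty_iff_forall_notMem.mp hfree d ⟨hd, hc⟩
  have hN := (ncard_invols S hy hfree').1
  obtain ⟨t, ht, hyt⟩ := Set.nonempty_of_ncard_ne_zero (s := invols y) (by omega)
  obtain ⟨a, b, c, habc, rfl⟩ := type_three S hy hfree' ht hyt
  obtain ⟨k, ka, kb, kc⟩ := triple_move S habc hv.tri
  have ktp : k * (a * (b * c)) * k⁻¹ = tp v := by
    rw [tp, ← ka, ← kb, ← kc]; group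
  have hcy : Commute (k * y * k⁻¹) (tp v) := ktp ▸ (commute_conj_iff k y _).mpr hyt
  have hPn : P ≤ nine v := fun u hu => hP.acts u hu
  have hfac : (Nat.card (nine v)).factorization 3 = 3 := factor_three (hP.card ▸ Subgroup.card_dvd_of_le hPn)
    (card_cent S hv ▸ Subgroup.card_dvd_of_le fun u hu => by
      obtain ⟨i, j, hij⟩ := hu
      exact Subgroup.mem_centralizer_singleton_iff.mpr (commute_tp_of_acts hv hij).eq)
  have h27 : (k * y * k⁻¹) ^ 27 = 1 := by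
    rw [conj_pow, show y ^ 27 = 1 by rw [show 27 = 3 * 9 from rfl, pow_mul, hy3, one_pow]]; group
  obtain ⟨m, -, hm'⟩ := conj_into (p := 3) hPn (by rw [hP.card, hfac]; rfl)
    (R := Subgroup.zpowers (k * y * k⁻¹)) (Subgroup.zpowers_le.mpr (is_nine S hv hcy h27))
    (IsPGroup.iff_card.mpr ⟨1, by
      rw [Nat.card_zpowers, show k * y * k⁻¹ = MulAut.conj k y from rfl, MulEquiv.orderOf_eq, hy, pow_one]⟩)
  obtain ⟨x, hx⟩ := (g.mem _).mp (hm' _ (Subgroup.mem_zpowers _))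
  have hxfree : ∀ d ∈ D, ¬ Commute (E x) d := by
    intro d hd hc
    have h' : E x = (m * k) * y * (m * k)⁻¹ := by
      show el s s' z x = _
      rw [hx]; group
    refine hfree' ((m * k)⁻¹ * d * (m * k)) (by simpa using S.hD.2.1 (m * k)⁻¹ d hd) ?_
    refine (commute_conj_iff (m * k) y _).mp ?_
    rw [MulAut.conj_apply, MulAut.conj_apply, ← h', show (m * k) * ((m * k)⁻¹ * d * (m * k)) * (m * k)⁻¹ = d by group]
    exact hc
  obtain ⟨x1, x2, x3⟩ := x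
  have h1 : x1 ≠ 0 := fun e' => hxfree _ (hv.mem 3).1.1 ((g.fix hv _ 3).mpr (Or.inr ⟨by decide, e'⟩))
  have h2 : x2 ≠ 0 := fun e' => hxfree _ hv.tri.ma ((g.fix hv _ 0).mpr (Or.inl ⟨by decide, e'⟩))
  have h3 : x3 ≠ 0 := fun e' => hxfree e g.efar.1.1 (e' ▸ g.fix_e x1 x2)
  have hr' := (hR (x1, x2, x3) h1 h2 h3).conj (m * k)⁻¹
  rwa [show (m * k)⁻¹ * E (x1, x2, x3) * ((m * k)⁻¹)⁻¹ = y by
    show (m * k)⁻¹ * el s s' z (x1, x2, x3) * ((m * k)⁻¹)⁻¹ = y
    rw [hx]; group] at hr'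

end Cfsg.Agent.Lib.FischerMTypes.Threes
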