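import Mathlib
import Cfsg.Agent.Lib.FischerMTypes.Threes.Width
import Cfsg.Agent.Lib.FischerMTypes.Threes.Counts
import Cfsg.Agent.Lib.FischerMTypes.Thirteen.Final
import Cfsg.Agent.Lib.FischerMTypes.Prime.Basic

/-!
Type M(22): the four classes of subgroups of order three and the widths of their centralizers.
-/

set_option autoImplicit false
set_option linter.style.haveILetI false
set_option linter.unusedSectionVars false

namespace Cfsg.Agent.Lib.FischerMTypes.Threes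

open Cfsg.Agent.Lib.FischerMTypes.Basic Cfsg.Agent.Lib.FischerMTypes.Primitive
  Cfsg.Agent.Lib.FischerMTypes.Aut22 Cfsg.Agent.Lib.FischerMTypes.Thirteen
  Cfsg.Agent.Lib.FischerMTypes.TraceSize
open Cfsg.Agent.Lib.FischerMTypes.TraceCounts (Sys)
open Cfsg.Agent.Lib.UnitaryFour.Transvection (exists_omega)

universe u

variable {G : Type u} [Group G] [Finite G] {D : Set G}
variable {F : Type} [Field F] [Fintype F]

theorem fixd_zpowers (x : G) :
    D ∩ (Subgroup.centralizer ((Subgroup.zpowers x : Subgroup G) : Set G) : Set G) = fixd D x := by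
  ext z
  rw [PrimeOnce.centralizer_zpowers]
  simp only [Set.mem_inter_iff, SetLike.mem_coe, Subgroup.mem_centralizer_singleton_iff, fixd, Set.mem_ofPred_eq]
  exact and_congr_right fun _ => ⟨fun h => h.symm, fun h => h.symm⟩

theorem fixd_congr {x y : G} (h : Subgroup.zpowers x = Subgroup.zpowers y) : fixd D x = fixd D y := by
  rw [← fixd_zpowers, h, fixd_zpowers]

theorem zpowers_sq {b : G} (hb : b ^ 3 = 1) : Subgroup.zpowers (b ^ 2) = Subgroup.zpowers b :=
  le_antisymm (Subgroup.zpowers_le.mpr (Subgroup.pow_mem _ (Subgroup.mem_zpowers b) 2))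
    (Subgroup.zpowers_le.mpr <| Subgroup.mem_zpowers_iff.mpr
      ⟨2, by rw [zpow_ofNat, ← pow_mul, pow_eq_pow_mod _ hb, pow_one]⟩)

theorem map_zpowers (g x : G) :
    (Subgroup.zpowers x).map (MulAut.conj g).toMonoidHom = Subgroup.zpowers (g * x * g⁻¹) := by
  rw [MonoidHom.map_zpowers]; rfl

variable (S : Sys D F)

include S in
theorem four_classes : ∃ Y : Fin 4 → Subgroup G, (∀ i, Nat.card (Y i) = 3) ∧
    (∀ i j, (∃ g : G, (Y i).map (MulAut.conj g).toMonoidHom = Y j) → i = j) ∧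
    (∀ X : Subgroup G, Nat.card X = 3 → ∃ i, ∃ g : G, X.map (MulAut.conj g).toMonoidHom = Y i) ∧
    Cfsg.commutingWidth (D ∩ (Subgroup.centralizer ((Y 0 : Subgroup G) : Set G) : Set G)) = 6 ∧
    Cfsg.commutingWidth (D ∩ (Subgroup.centralizer ((Y 1 : Subgroup G) : Set G) : Set G)) = 4 ∧
    Cfsg.commutingWidth (D ∩ (Subgroup.centralizer ((Y 2 : Subgroup G) : Set G) : Set G)) = 3 ∧
    Cfsg.commutingWidth (D ∩ (Subgroup.centralizer ((Y 3 : Subgroup G) : Set G) : Set G)) = 0 := by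
  classical
  have : Fact (Nat.Prime 3) := ⟨Nat.prime_three⟩
  obtain ⟨a0, b0, c0, h0, -⟩ := triangle_model S
  obtain ⟨w, hw0, hw1, -⟩ := exists_omega (S.ctx a0 h0.ma).hF
  obtain ⟨ya, -, ha3, ha1, hac, -, -, han⟩ := exists_count S h0.ma hw0 hw1 0
  obtain ⟨yb, -, hb3, hb1, hbc, -, -, hbn⟩ := exists_count S h0.ma hw0 hw1 2
  obtain ⟨yc, -, hc3, hc1, hcc, -, -, hcn⟩ := exists_count S h0.ma hw0 hw1 1
  obtain ⟨yd, hd3, hdf, hduniq⟩ := free_class S
  simp [nums] at han hbn hcn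
  let y : Fin 4 → G := ![ya, yb, yc, yd]
  have hord : ∀ i, orderOf (y i) = 3 := by
    intro i
    fin_cases i
    exacts [orderOf_eq_prime ha3 ha1, orderOf_eq_prime hb3 hb1, orderOf_eq_prime hc3 hc1, hd3]
  have hwid : ∀ i g, Cfsg.commutingWidth (fixd D (g * y i * g⁻¹)) = ![6, 4, 3, 0] i := by
    intro i g
    have h3 : ∀ {x : G}, x ^ 3 = 1 → (g * x * g⁻¹) ^ 3 = 1 := fun {x} h => by rw [conj_pow, h]; simp
    have h1 : ∀ {x : G}, x ≠ 1 → g * x * g⁻¹ ≠ 1 := fun {x} h => by simpa using h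
    have hm : ∀ {x : G}, Commute x a0 → g * a0 * g⁻¹ ∈ fixd D (g * x * g⁻¹) := fun {x} h =>
      ⟨S.hD.2.1 g a0 h0.ma, (commute_conj_iff g x a0).mpr h⟩
    fin_cases i
    · exact width_four S (h3 ha3) (h1 ha1) (hm hac) ((ncard_nbr_move S.hD g ya a0).trans han)
    · exact width_nine S (h3 hb3) (h1 hb1) (hm hbc) ((ncard_nbr_move S.hD g yb a0).trans hbn)
    · exact width_eighteen S (h3 hc3) (h1 hc1) (hm hcc) ((ncard_nbr_move S.hD g yc a0).trans hcn)
    · show Cfsg.commutingWidth (fixd D (g * yd * g⁻¹)) = 0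
      have h : (fixd D (g * yd * g⁻¹)).ncard = 0 := by rw [ncard_fixd_move S.hD, hdf, Set.ncard_empty]
      rw [(Set.ncard_eq_zero (Set.toFinite _)).mp h]
      exact width_empty
  have hwid1 : ∀ i, Cfsg.commutingWidth
      (D ∩ (Subgroup.centralizer ((Subgroup.zpowers (y i) : Subgroup G) : Set G) : Set G)) = ![6, 4, 3, 0] i :=
    fun i => by rw [fixd_zpowers]; simpa using hwid i 1
  refine ⟨fun i => Subgroup.zpowers (y i), fun i => by rw [Nat.card_zpowers, hord i], fun i j hij => ?_,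
    fun X hX => ?_, hwid1 0, hwid1 1, hwid1 2, hwid1 3⟩
  · obtain ⟨g, hg⟩ := hij
    rw [map_zpowers] at hg
    have h := hwid i g
    rw [fixd_congr hg, show y j = 1 * y j * 1⁻¹ by simp, hwid j 1] at h
    have key : ∀ a b : Fin 4, (![6, 4, 3, 0] : Fin 4 → ℕ) b = ![6, 4, 3, 0] a → a = b := by decide
    exact key i j h
  · obtain ⟨x, hx, rfl⟩ := PrimeOnce.exists_gen hX
    have hx3 : x ^ 3 = 1 := hx ▸ pow_orderOf_eq_one x
    have hx1 : x ≠ 1 := fun h => by rw [h, orderOf_one] at hx; norm_num at hx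
    suffices ∃ i k, Subgroup.zpowers (k * x * k⁻¹) = Subgroup.zpowers (y i) by
      obtain ⟨i, k, hk⟩ := this
      exact ⟨i, k, (map_zpowers k x).trans hk⟩
    rcases (fixd D x).eq_empty_or_nonempty with h | ⟨d, hd⟩
    · obtain ⟨k, hk⟩ := hduniq x hx h
      refine ⟨3, k⁻¹, ?_⟩
      show _ = Subgroup.zpowers yd
      rcases hk with hk | hk
      · rw [← hk]
        group
      · rw [← zpowers_sq (b := k⁻¹ * x * k⁻¹⁻¹) (by rw [conj_pow, hx3]; simp), conj_pow, ← hk]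
        group
    · rcases ncard_nbr_cases S hx3 hx1 hd.1 hd.2 with hn | hn | hn
      · obtain ⟨k, hk⟩ := conj_of_count S hx3 hx1 ha3 ha1 hd ⟨h0.ma, hac⟩ (hn.trans han.symm)
        exact ⟨0, k, by rw [hk]; rfl⟩
      · obtain ⟨k, hk⟩ := conj_of_count S hx3 hx1 hc3 hc1 hd ⟨h0.ma, hcc⟩ (hn.trans hcn.symm)
        exact ⟨2, k, by rw [hk]; rfl⟩
      · obtain ⟨k, hk⟩ := conj_of_count S hx3 hx1 hb3 hb1 hd ⟨h0.ma, hbc⟩ (hn.trans hbn.symm)
        exact ⟨1, k, by rw [hk]; rfl⟩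

end Cfsg.Agent.Lib.FischerMTypes.Threes
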